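import Cfsg.Agent.Lib.TwMax.Move
import Cfsg.Agent.Lib.Lie.TwD4
import Cfsg.Agent.Lib.Lie.TwTwoGen

/-! The rational points are maximal in `³D₄(q)`. -/

set_option autoImplicit false
set_option maxRecDepth 20000

namespace Cfsg.Agent.TwMax.D4

open Cfsg.Lie Cfsg.Agent.Chev Cfsg.Agent.Chev.Tab Cfsg.Agent.ChevAut Cfsg.Agent.SFMax
open Cfsg.Agent.Chev.TwD4 (g0 gA wd wd_wd psi psi_apply pow_three coord)

/-- the table facts -/
theorem sd : SD D4Data.tab TwD4.phiK [(6, 22, 0), (1, 23, 0), (3, 22, 0), (2, 22, 0)] [] :=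
  ⟨⟨⟨⟨D4Data.good, by decide +kernel⟩, by decide +kernel⟩, by decide +kernel⟩,
    by decide +kernel, by decide +kernel, by decide +kernel, by decide +kernel, by decide +kernel,
    by decide +kernel, by decide +kernel, by decide +kernel⟩

/-- the orbits of grade one -/
def orbs : List (List ℕ) := [[14], [15, 16, 19], [17, 20, 21], [22]]

theorem baseOK : checkBase D4Data.tab [] D4Data.symA wd 2 orbs = true := by decide +kernel

theorem leviOK : checkLevi D4Data.tab D4Data.symA = true := by decide +kernel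

theorem sgnOK : checkSgn D4Data.symA orbs = true := by decide +kernel

theorem langOK : checkLang D4Data.tab D4Data.symA = true := by decide +kernel

variable {F : Type*} [Field F] [Fintype F] {q : ℕ} (hq : IsPrimePow q)
  (hK : Fintype.card F = q ^ 3)

/-- the setting -/
noncomputable abbrev tw : TW D4Data.tab TwD4.phiK [(6, 22, 0), (1, 23, 0), (3, 22, 0), (2, 22, 0)] [] F where
  g := sd
  X := TwD4.X hq hK
  Sy := D4Data.symA
  symOK := D4Data.symA_ok
  ψ := psi hq hK
  orbs := orbs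
  σ_eq := rfl
  π_eq _ := rfl
  n_eq _ _ := rfl
  base := baseOK

/-- conjugation by an orbit element: the coordinates -/
theorem move3 (a b c : F) {v : GL D4Data.tab.D.Idx F} (hv : v ∈ (tw hq hK).Q) :
    let y := xg g0 12 a * xg g0 13 b * xg g0 18 c
    y * v * y⁻¹ ∈ (tw hq hK).Q ∧
    (tw hq hK).cd (y * v * y⁻¹) 14 = (tw hq hK).cd v 14 ∧
    (tw hq hK).cd (y * v * y⁻¹) 15 = (tw hq hK).cd v 15 + a * (tw hq hK).cd v 14 ∧
    (tw hq hK).cd (y * v * y⁻¹) 17 = (tw hq hK).cd v 17 + b * (tw hq hK).cd v 15 +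
      a * ((tw hq hK).cd v 16 + b * (tw hq hK).cd v 14) := by
  intro y
  set d := tw hq hK
  obtain ⟨q1, c1⟩ := d.move (b := 18) (by decide +kernel) c hv
  obtain ⟨q2, c2⟩ := d.move (b := 13) (by decide +kernel) b q1
  obtain ⟨q3, c3⟩ := d.move (b := 12) (by decide +kernel) a q2
  have e : y * v * y⁻¹ = xg g0 12 a * (xg g0 13 b * (xg g0 18 c * v * (xg g0 18 c)⁻¹) *
      (xg g0 13 b)⁻¹) * (xg g0 12 a)⁻¹ := by simp only [y]; group
  have hs : srcs D4Data.tab 18 14 = [] ∧ srcs D4Data.tab 13 14 = [] ∧ srcs D4Data.tab 12 14 = [] ∧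
      srcs D4Data.tab 18 15 = [] ∧ srcs D4Data.tab 13 15 = [] ∧ srcs D4Data.tab 12 15 = [14] ∧
      srcs D4Data.tab 18 17 = [] ∧ srcs D4Data.tab 13 17 = [15] ∧ srcs D4Data.tab 12 17 = [16] ∧
      srcs D4Data.tab 18 16 = [] ∧ srcs D4Data.tab 13 16 = [14] ∧
      mvC D4Data.tab 12 14 = 1 ∧ mvC D4Data.tab 13 15 = 1 ∧ mvC D4Data.tab 12 16 = 1 ∧
      mvC D4Data.tab 13 14 = 1 := by decide +kernel
  obtain ⟨s1, s2, s3, s4, s5, s6, s7, s8, s9, s10, s11, m1, m2, m3, m4⟩ := hs
  have o : one D4Data.tab 14 = true ∧ one D4Data.tab 15 = true ∧ one D4Data.tab 16 = true ∧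
      one D4Data.tab 17 = true := by decide +kernel
  obtain ⟨o14, o15, o16, o17⟩ := o
  rw [e]
  refine ⟨q3, ?_, ?_, ?_⟩
  · rw [c3 14 o14, c2 14 o14, c1 14 o14, s1, s2, s3]; simp
  · rw [c3 15 o15, c2 15 o15, c1 15 o15, s4, s5, s6]
    simp only [List.map_cons, List.map_nil, List.sum_cons, List.sum_nil, add_zero, m1,
      Int.cast_one, one_mul]
    rw [c2 14 o14, c1 14 o14, s1, s2]; simp
  · rw [c3 17 o17, c2 17 o17, c1 17 o17, s7, s8, s9]
    simp only [List.map_cons, List.map_nil, List.sum_cons, List.sum_nil, add_zero, m2, m3,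
      Int.cast_one, one_mul]
    rw [c2 16 o16, c1 16 o16, c1 15 o15, s10, s11, s4]
    simp only [List.map_cons, List.map_nil, List.sum_cons, List.sum_nil, add_zero, m4,
      Int.cast_one, one_mul]
    rw [c1 14 o14, s1]; simp

theorem eP_eq (t : F) :
    TwD4.eP q t = xg g0 12 ((t ^ q) ^ q) * xg g0 13 (t ^ q) * xg g0 18 t := by
  simp [TwD4.eP, sProd, coord, mul_assoc]

/-- the relations between the coordinates of a fixed element -/
theorem rel {v : GL D4Data.tab.D.Idx F} (hv : v ∈ (tw hq hK).Q) (hσ : (tw hq hK).X.σ v = v) :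
    (tw hq hK).cd v 19 = -psi hq hK ((tw hq hK).cd v 15) ∧
      (tw hq hK).cd v 16 = psi hq hK (psi hq hK ((tw hq hK).cd v 15)) := by
  have h : ∀ k, one D4Data.tab k = true → (tw hq hK).cd v (D4Data.symA.π.getD k 0) =
      (D4Data.symA.ζ.getD k 1 : F) * psi hq hK ((tw hq hK).cd v k) := fun k hk => by
    have h := (tw hq hK).cd_σ hv k hk
    rwa [hσ, (tw hq hK).π_eq] at h
  have hd : one D4Data.tab 15 = true ∧ one D4Data.tab 19 = true ∧
      D4Data.symA.π.getD 15 0 = 19 ∧ D4Data.symA.π.getD 19 0 = 16 ∧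
      D4Data.symA.ζ.getD 15 1 = -1 ∧ D4Data.symA.ζ.getD 19 1 = -1 := by decide +kernel
  obtain ⟨o15, o19, p15, p19, z15, z19⟩ := hd
  have h1 := h 15 o15
  have h2 := h 19 o19
  rw [p15, z15] at h1
  rw [p19, z19, h1] at h2
  refine ⟨by simpa using h1, by simpa using h2⟩

/-- `t` is fixed when two of its conjugates agree -/
theorem fixed_of_eq {t : F} (h : psi hq hK t = psi hq hK (psi hq hK t)) : psi hq hK t = t :=
  ((psi hq hK).injective h).symm

theorem psi3 (t : F) : psi hq hK (psi hq hK (psi hq hK t)) = t := by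
  simp only [psi_apply, pow_three hq hK]

/-- a rational orbit element has a fixed parameter -/
theorem eP_rat {t : F} (h : TwD4.eP q t ∈ ratS D4Data.tab (psi hq hK)) : psi hq hK t = t := by
  rw [mem_ratS, TwD4.eP, sProd, map_list_prod, List.map_map] at h
  have h' : sProd g0 [12, 13, 18] (fun r => psi hq hK (coord q t r)) =
      sProd g0 [12, 13, 18] (coord q t) := by
    rw [sProd, sProd, ← h]
    exact congrArg List.prod (List.map_congr_left fun r _ => by simp [entryHom_xg])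
  have := sProd_unique g0 (by decide) (by decide +kernel) h' 18 (by simp)
  simpa [coord] using this

theorem eP_rat' {t : F} (ht : psi hq hK t = t) : TwD4.eP q t ∈ (tw hq hK).M := by
  refine Subgroup.mem_inf.2 ⟨TwD4.eP_mem t, Subgroup.list_prod_mem _ fun y hy => ?_⟩
  obtain ⟨r, -, rfl⟩ := List.mem_map.1 hy
  refine fixElem_le_ratS g0 _ (xg_mem_fixElem g0 r ?_)
  have h' : t ^ q = t := by rw [← psi_apply hq hK, ht]
  simp [coord, h', psi_apply]

include hq hK in
theorem eP_add (s t : F) : TwD4.eP q s * TwD4.eP q t = TwD4.eP q (s + t) := by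
  have hp : ∀ x y : F, (x + y) ^ q = x ^ q + y ^ q := fun x y => by
    rw [← psi_apply hq hK, map_add, psi_apply, psi_apply]
  have h := sProd_add gA (R := [12, 13, 18]) (by decide +kernel) (coord q s) (coord q t)
  refine h.trans (sProd_congr g0 fun r _ => ?_)
  simp only [coord]
  split_ifs <;> simp [hp]

/-- an orbit moved onto the simple orbit -/
theorem toP {Ls : List ℕ} (hLs : ∀ b ∈ Ls, b < 2) {O : List ℕ}
    (hO : ∀ r ∈ O, r < D4Data.tab.n ∧
      D4Data.tab.rw' (Ls.flatMap wd) r ∈ ([12, 13, 18] : List ℕ))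
    {a : ℕ → F} (h : sProd g0 O a ∈ (tw hq hK).X.G1) :
    ∃ n ∈ (tw hq hK).M, n = nWd g0 F (Ls.flatMap wd) ∧
      ∃ t, n * sProd g0 O a * n⁻¹ = TwD4.eP q t := by
  obtain ⟨hn, hL, -⟩ := (tw hq hK).nWd_mem (Ls := Ls) hLs
  refine ⟨_, hn, rfl, ?_⟩
  obtain ⟨b, e, -⟩ := conj_sProd g0 hL (fun r hr => (hO r hr).1) a
  refine TwD4.fixed1 hq hK ?_ ?_
  · rw [e]
    refine sProd_mem g0 (fun s hs => ?_) _
    obtain ⟨r, hr, rfl⟩ := List.mem_map.1 hs
    have hall : ∀ s ∈ ([12, 13, 18] : List ℕ), D4Data.tab.N ≤ s ∧ s < D4Data.tab.n ∧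
        D4Data.tab.rw' (wd 1) s < D4Data.tab.N := by decide +kernel
    exact hall _ (hO r hr).2
  · exact (TwD4.twisted_fixed hq hK _
      (mul_mem (mul_mem ((tw hq hK).M_G1 hn) h) (inv_mem ((tw hq hK).M_G1 hn)))).2

theorem hE_mem {u : Fˣ} (hu : psi hq hK (u : F) = u) :
    hE g0 (D4Data.tab.smp 1) (u : F) ∈ (tw hq hK).M := by
  refine Subgroup.mem_inf.2 ⟨?_, ?_⟩
  · rw [hE_smp g0 (show 1 < D4Data.tab.l by decide)]
    exact TwD4.hS_mid_mem hq hK (by rw [← psi_apply hq hK, hu])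
  · rw [hE_eq_tor g0 (g0.smp_lt (show 1 < D4Data.tab.l by decide)), mem_ratS, entryHom_tor]
    congr 1
    funext j
    refine Units.ext ?_
    simp [map_zpow₀, hu]

include hq hK in
theorem ne_top : (tw hq hK).M ≠ (tw hq hK).X.G1 := by
  intro e
  have h : ∀ t : F, t ^ q = t := fun t => by
    rw [← psi_apply hq hK]
    exact eP_rat hq hK ((tw hq hK).M_rat (e ▸ TwD4.eP_mem t))
  have h1 := TwField.card_fixed (K := F) hq.one_lt hK
  rw [Nat.card_congr (Equiv.subtypeUnivEquiv h), Nat.card_eq_fintype_card, hK] at h1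
  exact absurd h1 (lt_self_pow₀ hq.one_lt (by norm_num)).ne'

section
variable {H : Subgroup (GL D4Data.tab.D.Idx F)} (hM : (tw hq hK).M ≤ H)
  (hle : H ≤ (tw hq hK).X.G1)
include hM hle

/-- the radical is rational if the orbit of `17` is -/
theorem rad (hS : ∀ a : ℕ → F, sProd g0 [17, 20, 21] a ∈ H →
      sProd g0 [17, 20, 21] a ∈ ratS D4Data.tab (psi hq hK)) :
    ∀ v ∈ H, v ∈ (tw hq hK).Q → v ∈ ratS D4Data.tab (psi hq hK) := by
  intro v hvH hv
  set d := tw hq hK with hd
  have hσ : d.X.σ v = v := (d.X.G1_le v (hle hvH)).2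
  set g := xg g0 12 (1 : F) * xg g0 13 1 * xg g0 18 1 with hg'
  have hgM : g ∈ d.M := by
    have h := eP_rat' hq hK (map_one (psi hq hK))
    rwa [eP_eq, one_pow, one_pow] at h
  obtain ⟨hQ, c14, c15, c17⟩ := move3 hq hK 1 1 1 hv
  rw [← hg', ← hd] at hQ c14 c15 c17
  set y := g * v * g⁻¹
  have hyH : y ∈ H := mul_mem (mul_mem (hM hgM) hvH) (inv_mem (hM hgM))
  have hwH : y * v⁻¹ ∈ H := mul_mem hyH (inv_mem hvH)
  have hwQ : y * v⁻¹ ∈ d.Q := mul_mem hQ (inv_mem hv)
  have hwσ : d.X.σ (y * v⁻¹) = y * v⁻¹ := (d.X.G1_le _ (hle hwH)).2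
  obtain ⟨r19, r16⟩ := rel hq hK hwQ hwσ
  obtain ⟨v19, v16⟩ := rel hq hK hv hσ
  rw [← hd] at r19 r16 v19 v16
  have hone : one D4Data.tab 14 = true ∧ one D4Data.tab 22 = true ∧
      D4Data.symA.π.getD 14 0 = 14 ∧ D4Data.symA.π.getD 22 0 = 22 := by decide +kernel
  obtain ⟨o14, o22, p14, p22⟩ := hone
  have h14 := d.fixed_cd hv hσ o14 p14
  have hw : ∀ k, d.cd (y * v⁻¹) k = d.cd y k - d.cd v k := fun k => by
    rw [d.cd_mul hQ (inv_mem hv), d.cd_inv hv, sub_eq_add_neg]
  have w15 : d.cd (y * v⁻¹) 15 = d.cd v 14 := by rw [hw, c15]; ring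
  have hψ15 : d.ψ (d.cd (y * v⁻¹) 15) = d.cd (y * v⁻¹) 15 := by rw [w15, h14]
  -- only the orbit of `17` is moved
  have hothers : ∀ u, u ∈ d.Q → d.X.σ u = u → d.ψ (d.cd u 15) = d.cd u 15 →
      ∀ O' ∈ d.orbs, O' ≠ [17, 20, 21] → ∀ r ∈ O', d.ψ (d.cd u r) = d.cd u r := by
    intro u hu hu' h15 O' hO' hne r hr
    obtain ⟨a19, a16⟩ := rel hq hK hu hu'
    simp only [hd, orbs, List.mem_cons, List.not_mem_nil, or_false] at hO'
    rcases hO' with rfl | rfl | rfl | rfl
    · obtain rfl := List.mem_singleton.1 hr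
      exact d.fixed_cd hu hu' o14 p14
    · simp only [List.mem_cons, List.not_mem_nil, or_false] at hr
      change psi hq hK _ = _ at h15
      rcases hr with rfl | rfl | rfl
      · exact h15
      · rw [a16, h15, h15]; exact h15
      · rw [a19, h15]; show psi hq hK _ = _; rw [map_neg, h15]
    · exact absurd rfl hne
    · obtain rfl := List.mem_singleton.1 hr
      exact d.fixed_cd hu hu' o22 p22
  have hO : ([17, 20, 21] : List ℕ) ∈ d.orbs := by simp [hd, orbs]
  have w17 := d.orbit_rat hM hO hS hwH hwQ hwσ (hothers _ hwQ hwσ hψ15) (r := 17) (by simp)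
  rw [hw, c17, v16] at w17
  -- the coordinate at `15`
  have h15 : d.ψ (d.cd v 15) = d.cd v 15 := by
    have h3 := psi3 hq hK (d.cd v 15)
    change psi hq hK (d.cd v 14) = _ at h14
    change psi hq hK _ = _ at w17
    refine fixed_of_eq hq hK ?_
    simp only [map_sub, map_add, one_mul, h14, h3] at w17
    linear_combination w17
  exact d.rat_of_cd hv hσ fun O hO' r hr => by
    by_cases h : O = [17, 20, 21]
    · subst h; exact d.orbit_rat hM hO' hS hvH hv hσ (hothers _ hv hσ h15) hr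
    · exact hothers _ hv hσ h15 O hO' h r hr

/-- an irrational orbit element in `H` gives everything -/
theorem all_of_bad {a : ℕ → F} (ha : sProd g0 [17, 20, 21] a ∈ H)
    (hbad : sProd g0 [17, 20, 21] a ∉ ratS D4Data.tab (psi hq hK)) :
    H = (tw hq hK).X.G1 := by
  set d := tw hq hK with hd
  -- an irrational parameter
  obtain ⟨n, hn, -, t, et⟩ := toP hq hK (Ls := [0, 1]) (by simp) (by decide +kernel) (hle ha)
  have htH : TwD4.eP q t ∈ H := et ▸ mul_mem (mul_mem (hM hn) ha) (inv_mem (hM hn))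
  have ht : psi hq hK t ≠ t := fun e => hbad (by
    have := mul_mem (mul_mem (inv_mem (d.M_rat hn)) (d.M_rat (eP_rat' hq hK e))) (d.M_rat hn)
    rw [← et] at this
    simpa [mul_assoc] using this)
  have ht0 : t ≠ 0 := fun e => ht (by rw [e, map_zero])
  let V : AddSubgroup F :=
    { carrier := {x | TwD4.eP q x ∈ H}
      zero_mem' := hM (eP_rat' hq hK (map_zero _))
      add_mem' := fun {x y} hx hy => by
        show TwD4.eP q (x + y) ∈ H
        rw [← eP_add hq hK]; exact mul_mem hx hy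
      neg_mem' := fun {x} hx => by
        show TwD4.eP q (-x) ∈ H
        have h0 : TwD4.eP q x * TwD4.eP q (-x) = 1 := by
          rw [eP_add hq hK, add_neg_cancel, TwD4.eP]
          refine (sProd_congr g0 fun r _ => ?_).trans (sProd_zero' g0 _)
          simp [coord, zero_pow hq.ne_zero]
        rw [← inv_eq_of_mul_eq_one_right h0]; exact inv_mem hx }
  have hmem : ∀ x, x ∈ V ↔ TwD4.eP q x ∈ H := fun _ => Iff.rfl
  have hsmul : ∀ l : F, psi hq hK l = l → ∀ x ∈ V, l * x ∈ V := by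
    intro l hl x hx
    by_cases hl0 : l = 0
    · rw [hl0, zero_mul]; exact zero_mem V
    set u : Fˣ := (Units.mk0 l hl0)⁻¹
    have hu : psi hq hK (u : F) = u := by simp [u, map_inv₀, hl]
    have h := mul_mem (mul_mem (hM (hE_mem hq hK hu)) hx) (inv_mem (hM (hE_mem hq hK hu)))
    rw [hmem]
    convert h using 1
    have hpr : pr D4Data.tab (D4Data.tab.smp 1) 12 = -1 ∧ pr D4Data.tab (D4Data.tab.smp 1) 13 = -1 ∧
        pr D4Data.tab (D4Data.tab.smp 1) 18 = -1 ∧ D4Data.tab.smp 1 < D4Data.tab.n ∧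
        12 < D4Data.tab.n ∧ 13 < D4Data.tab.n ∧ 18 < D4Data.tab.n := by decide +kernel
    obtain ⟨e12, e13, e18, hs, n12, n13, n18⟩ := hpr
    rw [eP_eq, eP_eq, show ∀ A B C X : GL D4Data.tab.D.Idx F, X * (A * B * C) * X⁻¹ =
        (X * A * X⁻¹) * (X * B * X⁻¹) * (X * C * X⁻¹) from fun A B C X => by group,
      hE_xg g0 hs n12, hE_xg g0 hs n13, hE_xg g0 hs n18, e12, e13, e18]
    have hl' : l ^ q = l := by rw [← psi_apply hq hK, hl]
    simp [u, mul_pow, hl']
  have h1 : (1 : F) ∈ V := hM (eP_rat' hq hK (map_one _))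
  -- the inverse of `t`
  have hNt : ((t ^ q) ^ q) * (t ^ q) * t ≠ 0 :=
    mul_ne_zero (mul_ne_zero (pow_ne_zero _ (pow_ne_zero _ ht0)) (pow_ne_zero _ ht0)) ht0
  have hinv : t⁻¹ ∈ V := by
    have o14 : one D4Data.tab 14 = true := by decide +kernel
    have hp14 : d.X.π 14 = 14 := by show D4Data.symA.π.getD 14 0 = 14; decide +kernel
    have h14o := (mem_out_iff d.g).2 (Or.inl o14)
    have hxQ : xg g0 14 (1 : F) ∈ d.Q := xg_mem_genS _ h14o _
    obtain ⟨hQ, -, c15, c17⟩ := move3 hq hK ((t ^ q) ^ q) (t ^ q) t hxQ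
    rw [← eP_eq, ← hd] at hQ c15 c17
    set y := TwD4.eP q t * xg g0 14 1 * (TwD4.eP q t)⁻¹
    have hcd : ∀ k, d.cd (xg g0 14 (1 : F)) k = if one D4Data.tab k = true ∧ 14 = k then 1 else 0 :=
      fun k => d.cd_xg h14o 1 k
    simp only [hcd] at c15 c17
    have o := (show one D4Data.tab 15 = true ∧ one D4Data.tab 16 = true ∧
      one D4Data.tab 17 = true by decide +kernel)
    simp [o14] at c15 c17
    have hyH : y ∈ H :=
      mul_mem (mul_mem htH (hM (d.fixed_mem (by decide +kernel) hp14 (map_one _)))) (inv_mem htH)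
    -- subtract the orbit of `15`
    obtain ⟨hn0, hL0, -⟩ := d.nWd_mem (Ls := [0]) (fun b hb => show b < 2 by simp at hb; omega)
    obtain ⟨b, eb, hb⟩ := conj_sProd g0 (L := ([0] : List ℕ).flatMap wd) hL0
      (O := [12, 13, 18]) (by decide +kernel) (coord q t)
    rw [show ([12, 13, 18] : List ℕ).map (D4Data.tab.rw' (([0] : List ℕ).flatMap wd)) = [15, 16, 19]
      by decide +kernel] at eb
    obtain ⟨ε, hε, hb15⟩ := hb 12 (by simp)
    rw [show D4Data.tab.rw' (([0] : List ℕ).flatMap wd) 12 = 15 by decide +kernel] at hb15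
    simp [coord] at hb15
    set z := sProd g0 [15, 16, 19] b with hzdef
    have hzH : z ∈ H := eb ▸ mul_mem (mul_mem (hM hn0) htH) (inv_mem (hM hn0))
    have hO1 : ([15, 16, 19] : List ℕ) ∈ d.orbs := by simp [hd, orbs]
    have hzQ : z ∈ d.Q := d.E_Q hO1 b
    have hz : ∀ k, d.cd z k = if k ∈ ([15, 16, 19] : List ℕ) then b k else 0 := fun k =>
      d.cd_sProd b (d.orb_data hO1).2 (by decide) k
    obtain ⟨w, hwH, hwQ, w15, w17⟩ : ∃ w ∈ H, w ∈ d.Q ∧ d.cd w 15 = 0 ∧
        d.cd w 17 = (t ^ q) ^ q * t ^ q := by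
      have z15 : d.cd z 15 = ε * (t ^ q) ^ q := by rw [hz, if_pos (by simp), hb15]
      have z17 : d.cd z 17 = 0 := by rw [hz, if_neg (by simp)]
      rcases mul_self_eq_one_iff.1 hε with e | e
      · refine ⟨y * z⁻¹, mul_mem hyH (inv_mem hzH), mul_mem hQ (inv_mem hzQ), ?_, ?_⟩ <;>
          rw [d.cd_mul hQ (inv_mem hzQ), d.cd_inv hzQ]
        · rw [c15, z15, e]; ring
        · rw [c17, z17]; ring
      · refine ⟨y * z, mul_mem hyH hzH, mul_mem hQ hzQ, ?_, ?_⟩ <;> rw [d.cd_mul hQ hzQ]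
        · rw [c15, z15, e]; ring
        · rw [c17, z17]; ring
    have hwσ : d.X.σ w = w := (d.X.G1_le w (hle hwH)).2
    have hO : ([17, 20, 21] : List ℕ) ∈ d.orbs := by simp [hd, orbs]
    obtain ⟨r19, r16⟩ := rel hq hK hwQ hwσ
    rw [← hd, w15] at r19 r16
    have hE := d.only_orbit hM hwH hwQ hwσ hO fun O' hO' hne r hr => by
      simp only [hd, orbs, List.mem_cons, List.not_mem_nil, or_false] at hO'
      rcases hO' with rfl | rfl | rfl | rfl
      · obtain rfl := List.mem_singleton.1 hr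
        exact d.fixed_cd hwQ hwσ o14 hp14
      · simp only [List.mem_cons, List.not_mem_nil, or_false] at hr
        rcases hr with rfl | rfl | rfl <;> simp [w15, r19, r16]
      · exact absurd rfl hne
      · obtain rfl := List.mem_singleton.1 hr
        exact d.fixed_cd hwQ hwσ (by decide +kernel) (by show D4Data.symA.π.getD 22 0 = 22; decide +kernel)
    -- move it to the simple orbit
    obtain ⟨n2, hn2, rfl, s, es⟩ := toP hq hK (Ls := [0, 1]) (by simp) (O := [17, 20, 21])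
      (by decide +kernel) (a := d.cd w) (hle hE)
    have hsH : s ∈ V := by
      rw [hmem, ← es]; exact mul_mem (mul_mem (hM hn2) hE) (inv_mem (hM hn2))
    obtain ⟨b2, eb2, hb2⟩ := conj_sProd g0 (d.nWd_mem (Ls := [0, 1]) (fun b hb => show b < 2 by simp at hb; omega)).2.1
      (O := [17, 20, 21]) (by decide +kernel) (d.cd w)
    rw [show ([17, 20, 21] : List ℕ).map (D4Data.tab.rw' (([0, 1] : List ℕ).flatMap wd)) =
      [18, 13, 12] by decide +kernel] at eb2
    obtain ⟨δ, hδ, hb17⟩ := hb2 17 (by simp)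
    rw [show D4Data.tab.rw' (([0, 1] : List ℕ).flatMap wd) 17 = 18 by decide +kernel, w17] at hb17
    have e18 := sProd_unique g0 (by decide) (by decide +kernel)
      ((eb2.symm.trans es).symm.trans (sProd_perm gA (by decide +kernel)
        (List.isPerm_iff.1 (by decide +kernel)) b2)) 18 (by simp)
    simp [coord] at e18
    rw [hb17] at e18
    -- scale by the norm
    have hδψ : psi hq hK δ = δ := by
      rcases mul_self_eq_one_iff.1 hδ with e | e <;> simp [e]
    have hN : psi hq hK ((t ^ q) ^ q * t ^ q * t) = (t ^ q) ^ q * t ^ q * t := by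
      simp only [map_mul, ← psi_apply hq hK, psi3]; ring
    have := hsmul (δ * ((t ^ q) ^ q * t ^ q * t)⁻¹) (by rw [map_mul, map_inv₀, hδψ, hN]) s hsH
    convert this using 1
    rw [e18]
    have hδ0 : δ ≠ 0 := fun e => by simp [e] at hδ
    field_simp
    linear_combination -hδ
  -- all parameters
  have hall : ∀ x : F, x ∈ V := by
    classical
    let k := {x : F // x ^ q = x}
    have hk : ∀ x : k, psi hq hK x.1 = x.1 := fun x => by rw [psi_apply, x.2]
    let f : k × k × k → F := fun p => p.1.1 + p.2.1.1 * t + p.2.2.1 * t⁻¹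
    have hkey : ∀ a b c : F, psi hq hK a = a → psi hq hK b = b → psi hq hK c = c →
        a + b * t + c * t⁻¹ = 0 → a = 0 ∧ b = 0 ∧ c = 0 := by
      intro a b c ha hb hc e
      have e0 : b * t ^ 2 + a * t + c = 0 := by
        have : t * t⁻¹ = 1 := mul_inv_cancel₀ ht0
        linear_combination t * e - c * this
      have e1 := congrArg (psi hq hK) e0
      have e2 := congrArg (psi hq hK) e1
      simp only [map_add, map_mul, map_pow, map_zero, ha, hb, hc] at e1 e2
      set t1 := psi hq hK t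
      set t2 := psi hq hK t1
      have d1 : (t - t1) ≠ 0 := sub_ne_zero.2 (Ne.symm ht)
      have d2 : t - t2 ≠ 0 := sub_ne_zero.2 fun h => ht (by
        have := congrArg (psi hq hK) h
        rw [psi3 hq hK] at this
        exact this)
      have d3 : t1 - t2 ≠ 0 := sub_ne_zero.2 fun h => ht (fixed_of_eq hq hK h)
      have f1 : b * (t + t1) + a = 0 := mul_left_cancel₀ d1 (by linear_combination e0 - e1)
      have f2 : b * (t + t2) + a = 0 := mul_left_cancel₀ d2 (by linear_combination e0 - e2)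
      have hb0 : b = 0 := mul_left_cancel₀ d3 (by linear_combination f1 - f2)
      rw [hb0] at f1 e0
      have ha0 : a = 0 := by linear_combination f1
      exact ⟨ha0, hb0, by rw [ha0] at e0; linear_combination e0⟩
    have hinj : Function.Injective f := by
      rintro ⟨⟨a, ha⟩, ⟨b, hb⟩, ⟨c, hc⟩⟩ ⟨⟨a', ha'⟩, ⟨b', hb'⟩, ⟨c', hc'⟩⟩ e
      have hd : ∀ {x y : F}, x ^ q = x → y ^ q = y → psi hq hK (x - y) = x - y := fun hx hy => by
        rw [map_sub, hk ⟨_, hx⟩, hk ⟨_, hy⟩]
      obtain ⟨h1, h2, h3⟩ := hkey (a - a') (b - b') (c - c') (hd ha ha') (hd hb hb') (hd hc hc')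
        (by simp only [f] at e; linear_combination e)
      have e1 : a = a' := sub_eq_zero.1 h1
      have e2 : b = b' := sub_eq_zero.1 h2
      have e3 : c = c' := sub_eq_zero.1 h3
      subst e1 e2 e3
      rfl
    have hcard : Nat.card (k × k × k) = Nat.card F := by
      simp only [Nat.card_prod, k, TwField.card_fixed hq.one_lt hK, Nat.card_eq_fintype_card (α := F),
        hK]
      ring
    intro x
    obtain ⟨⟨a, b, c⟩, rfl⟩ := (hinj.bijective_of_nat_card_le hcard.ge).2 x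
    exact add_mem (add_mem (by simpa using hsmul _ (hk a) _ h1) (hsmul _ (hk b) _ htH))
      (hsmul _ (hk c) _ hinv)
  refine le_antisymm hle ?_
  show TwD4.tw F q ≤ H
  rw [TwD4.tw, genSubgroup_eq g0, Subgroup.closure_le]
  rintro x ⟨w, (⟨l, hl, r, hr, rfl⟩ | ⟨l, rs, hrs, rfl⟩), rfl⟩
  · simp only [List.map_cons, List.map_nil, List.prod_cons, List.prod_nil, mul_one]
    have hr' : r = d4p2 ∨ r = d4m2 := by simpa using hr
    refine hM (Subgroup.mem_inf.2 ⟨TwD4.mid_mem hr' hl, ?_⟩)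
    exact fixElem_le_ratS g0 _ (xg_mem_fixElem g0 r (by rw [psi_apply, hl]))
  · simp only [List.mem_cons, List.not_mem_nil, or_false] at hrs
    rcases hrs with rfl | rfl
    · rw [← TwD4.eP_word]; exact hall l
    · rw [← TwD4.eN_word]
      obtain ⟨n3, hn3, -, s, es⟩ := toP hq hK (Ls := [1]) (by simp) (O := [5, 10, 11])
        (by decide +kernel) (a := coord q l) (TwD4.eN_mem l)
      have e : TwD4.eN q l = n3⁻¹ * TwD4.eP q s * n3 := by rw [← es, TwD4.eN]; group
      rw [e]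
      exact mul_mem (mul_mem (inv_mem (hM hn3)) (hall s)) (hM hn3)

/-- the rational points are maximal -/
theorem maximal : H = (tw hq hK).M ∨ H = (tw hq hK).X.G1 := by
  by_cases hS : ∀ a : ℕ → F, sProd g0 [17, 20, 21] a ∈ H →
      sProd g0 [17, 20, 21] a ∈ ratS D4Data.tab (psi hq hK)
  · exact Or.inl ((tw hq hK).eq_M ⟨leviOK, sgnOK, langOK, hM, hle,
      rad hq hK hM hle hS⟩)
  · push Not at hS
    obtain ⟨a, ha, hbad⟩ := hS
    exact Or.inr (all_of_bad hq hK hM hle ha hbad)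

end

end Cfsg.Agent.TwMax.D4
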