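import Cfsg.Agent.Lib.TwMax.Move
import Cfsg.Agent.Lib.Lie.TwE6

/-! The rational points are maximal in `²E₆(q)`. -/

set_option autoImplicit false
set_option maxRecDepth 20000

namespace Cfsg.Agent.TwMax.E6

open Cfsg.Lie Cfsg.Agent.Chev Cfsg.Agent.Chev.Tab Cfsg.Agent.ChevAut Cfsg.Agent.SFMax
open Cfsg.Agent.Chev.TwE6 (g0 gA wd psi psi_apply eP pow_two_q)

/-- the table facts -/
theorem sd : SD E6Data.tab TwE6.phiK
    [(16, 66, 0), (1, 71, 0), (5, 69, 0), (2, 70, 0), (3, 69, 0), (4, 68, 0)] [] :=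
  ⟨⟨⟨⟨E6Data.good, by decide +kernel⟩, by decide +kernel⟩, by decide +kernel⟩,
    by decide +kernel, by decide +kernel, by decide +kernel, by decide +kernel, by decide +kernel,
    by decide +kernel, by decide +kernel, by decide +kernel⟩

/-- the orbits of two roots of grade one, with the orbit words moving them to the simple orbit -/
def pairs : List (List ℕ × List ℕ) :=
  [([48, 50], [1, 0]), ([49, 61], [3, 1, 0]), ([52, 62], [3, 1, 0, 2]),
   ([54, 64], [3, 1, 0, 2, 1]), ([55, 67], [3, 1, 0, 2, 1, 2]),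
   ([66, 68], [3, 1, 0, 2, 1, 2, 3])]

/-- a fixed root of grade zero, the orbit moved by it and the orbit reached -/
def movers : List (ℕ × List ℕ × List ℕ) :=
  [(11, [66, 68], [48, 50]), (60, [48, 50], [66, 68]), (27, [55, 67], [49, 61]),
   (44, [49, 61], [55, 67]), (32, [54, 64], [52, 62]), (39, [52, 62], [54, 64])]

/-- the orbits of grade one -/
def orbs : List (List ℕ) :=
  [[46], [47], [51], [53], [63], [65], [69], [70], [48, 50], [49, 61], [52, 62], [54, 64],
   [55, 67], [66, 68]]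

/-- the table facts for a mover -/
def checkMover (b : ℕ) (Os Ot : List ℕ) : Bool :=
  checkMove E6Data.tab b && Nat.beq (E6Data.sym.π.getD b 0) b && memB b (List.range E6Data.tab.n) &&
  allBelow (fun j => !(one E6Data.tab j) || Nat.beq (mvT E6Data.tab b j) j ||
    Nat.beq (E6Data.sym.π.getD j 0) j || memB (mvT E6Data.tab b j) Ot) E6Data.tab.n &&
  Os.all (fun r => memB (mvT E6Data.tab b r) Ot && unit1 (mvC E6Data.tab b r) &&
    one E6Data.tab (mvT E6Data.tab b r) && srcs E6Data.tab b (mvT E6Data.tab b r) == [r])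

theorem baseOK : checkBase E6Data.tab [] E6Data.sym wd 4 orbs = true := by decide +kernel

theorem leviOK : checkLevi E6Data.tab E6Data.sym = true := by decide +kernel

theorem sgnOK : checkSgn E6Data.sym orbs = true := by decide +kernel

theorem langOK : checkLang E6Data.tab E6Data.sym = true := by decide +kernel

theorem moversOK : movers.all (fun m => checkMover m.1 m.2.1 m.2.2 &&
    orbs.any (· == m.2.2) && pairs.any (·.1 == m.2.2)) = true := by decide +kernel

theorem orbsOK : orbs.all (fun O => movers.any (·.2.1 == O) ||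
    O.all (fun r => Nat.beq (E6Data.sym.π.getD r 0) r)) = true := by decide +kernel

/-- the root is moved onto the simple orbit -/
def simpleB (Ls O : List ℕ) : Bool :=
  Ls.all (fun b => Nat.blt b 4) && O.all (fun r => Nat.blt r E6Data.tab.n &&
    memB (E6Data.tab.rw' (Ls.flatMap wd) r) [37, 42])

theorem pairsOK : pairs.all (fun p => simpleB p.2 p.1) = true := by decide +kernel

variable {F : Type*} [Field F] [Fintype F] {q : ℕ} (hq : IsPrimePow q)
  (hK : Fintype.card F = q ^ 2)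

/-- the setting -/
noncomputable abbrev tw : TW E6Data.tab TwE6.phiK
    [(16, 66, 0), (1, 71, 0), (5, 69, 0), (2, 70, 0), (3, 69, 0), (4, 68, 0)] [] F where
  g := sd
  X := TwE6.X hq hK
  Sy := E6Data.sym
  symOK := E6Data.sym_ok
  ψ := psi hq hK
  orbs := orbs
  σ_eq := rfl
  π_eq _ := rfl
  n_eq _ _ := rfl
  base := baseOK

theorem smp_vals : E6Data.tab.smp 4 = 37 ∧ E6Data.tab.smp 2 = 42 := by decide +kernel

theorem psi2 (t : F) : psi hq hK (psi hq hK t) = t := by
  simp only [psi_apply, pow_two_q hK]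

theorem eP_sProd (t : F) :
    eP F q 2 4 t = sProd g0 [37, 42] fun r => if r = 42 then t else t ^ q := by
  have hc := TwE6.pair_commute (F := F) (i := 2) (j := 4) (Or.inl ⟨rfl, rfl⟩) (TwE6.xg_node 2 t)
    (TwE6.xg_node 4 (t ^ q))
  rw [eP, hc.eq, smp_vals.1, smp_vals.2]
  simp [sProd]

/-- a rational orbit element has a fixed parameter -/
theorem eP_rat {t : F} (h : eP F q 2 4 t ∈ ratS E6Data.tab (psi hq hK)) : psi hq hK t = t := by
  rw [mem_ratS, eP_sProd, sProd, map_list_prod, List.map_map] at h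
  have h' : sProd g0 [37, 42] (fun r => psi hq hK (if r = 42 then t else t ^ q)) =
      sProd g0 [37, 42] (fun r => if r = 42 then t else t ^ q) := by
    rw [sProd, sProd, ← h]
    exact congrArg List.prod (List.map_congr_left fun r _ => by simp [entryHom_xg])
  have := sProd_unique g0 (by decide) (by decide +kernel) h' 42 (by simp)
  simpa using this

theorem eP_rat' {t : F} (ht : psi hq hK t = t) : eP F q 2 4 t ∈ (tw hq hK).M := by
  refine Subgroup.mem_inf.2 ⟨TwE6.eP_mem (Or.inl ⟨rfl, rfl⟩) t, ?_⟩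
  have h' : t ^ q = t := by rw [← psi_apply hq hK, ht]
  rw [eP, h']
  exact mul_mem (fixElem_le_ratS g0 _ (xg_mem_fixElem g0 _ ht))
    (fixElem_le_ratS g0 _ (xg_mem_fixElem g0 _ ht))

include hq hK in
theorem eP_add (s t : F) : eP F q 2 4 s * eP F q 2 4 t = eP F q 2 4 (s + t) := by
  have hp : (s + t) ^ q = s ^ q + t ^ q := by
    rw [← psi_apply hq hK, map_add, psi_apply, psi_apply]
  have hc := TwE6.pair_commute (F := F) (i := 2) (j := 4) (Or.inl ⟨rfl, rfl⟩) (TwE6.xg_node 2 t)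
    (TwE6.xg_node 4 (s ^ q))
  simp only [eP, hp]
  rw [← xg_add, ← xg_add, mul_assoc, ← mul_assoc (xg g0 (E6Data.tab.smp 4) (s ^ q)), ← hc.eq]
  group

/-- a fixed element moved onto the simple orbit -/
theorem toP {Ls O : List ℕ} (h : simpleB Ls O = true) {x : GL E6Data.tab.D.Idx F}
    (hx : x ∈ genS g0 F {r | r ∈ O}) (hxG : x ∈ (tw hq hK).X.G1) :
    ∃ n ∈ (tw hq hK).M, ∃ t, n * x * n⁻¹ = eP F q 2 4 t := by
  simp only [simpleB, Bool.and_eq_true, List.all_eq_true, nat_blt, memB_iff] at h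
  obtain ⟨hn, hL, -⟩ := (tw hq hK).nWd_mem (Ls := Ls) h.1
  refine ⟨_, hn, TwE6.fixed_pair hq hK (b := 2) (Or.inl ⟨rfl, rfl, rfl⟩) ?_ ?_⟩
  · have hall : ∀ s ∈ ([37, 42] : List ℕ), E6Data.tab.N ≤ s ∧ s < E6Data.tab.n ∧
        E6Data.tab.rw' (wd 2) s < E6Data.tab.N := by decide +kernel
    have hle : genS g0 F {r | r ∈ O} ≤ (uMinus g0 F (wd 2)).comap
        (MulAut.conj (nWd g0 F (Ls.flatMap wd))).toMonoidHom := by
      refine genS_le g0 fun r hr u => ?_
      obtain ⟨ε, -, hc⟩ := nWd_conj (F := F) g0 hL (h.2 r hr).1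
      simp only [Subgroup.mem_comap, MulEquiv.coe_toMonoidHom, MulAut.conj_apply]
      rw [(hc u).1]
      exact xg_mem_genS g0 (hall _ (h.2 r hr).2) _
    exact hle hx
  · exact (TwE6.twisted_fixed hq hK _
      (mul_mem (mul_mem ((tw hq hK).M_G1 hn) hxG) (inv_mem ((tw hq hK).M_G1 hn)))).2

theorem hE_mem {u : Fˣ} (hu : psi hq hK (u : F) = u) :
    hE g0 (E6Data.tab.smp 3) (u : F) ∈ (tw hq hK).M := by
  refine Subgroup.mem_inf.2 ⟨?_, ?_⟩
  · rw [hE]
    exact mul_mem (TwE6.nE_mid_mem hq hK (Or.inr rfl) (by rw [← psi_apply hq hK, hu]))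
      (TwE6.nE_mid_mem hq hK (Or.inr rfl) (TwE6.neg_one_pow hq hK))
  · rw [hE_eq_tor g0 (g0.smp_lt (show 3 < E6Data.tab.l by decide)), mem_ratS, entryHom_tor]
    congr 1
    funext j
    refine Units.ext ?_
    simp [map_zpow₀, hu]

include hq hK in
theorem ne_top : (tw hq hK).M ≠ (tw hq hK).X.G1 := by
  intro e
  have h : ∀ t : F, t ^ q = t := fun t => by
    rw [← psi_apply hq hK]
    exact eP_rat hq hK ((tw hq hK).M_rat (e ▸ TwE6.eP_mem (Or.inl ⟨rfl, rfl⟩) t))
  have h1 := TwField.card_fixed (K := F) hq.one_lt hK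
  rw [Nat.card_congr (Equiv.subtypeUnivEquiv h), Nat.card_eq_fintype_card, hK] at h1
  exact absurd h1 (lt_self_pow₀ hq.one_lt (by norm_num)).ne'

section
variable {H : Subgroup (GL E6Data.tab.D.Idx F)} (hM : (tw hq hK).M ≤ H)
  (hle : H ≤ (tw hq hK).X.G1)
include hM hle

/-- the radical is rational if the orbits of two roots are -/
theorem rad (hS : ∀ p ∈ pairs, ∀ a : ℕ → F, sProd g0 p.1 a ∈ H →
      sProd g0 p.1 a ∈ ratS E6Data.tab (psi hq hK)) :
    ∀ v ∈ H, v ∈ (tw hq hK).Q → v ∈ ratS E6Data.tab (psi hq hK) := by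
  intro v hvH hv
  set d := tw hq hK
  have hσ : d.X.σ v = v := (d.X.G1_le v (hle hvH)).2
  refine d.rat_of_cd hv hσ fun O hO r hr => ?_
  have h1 := orbsOK
  simp only [List.all_eq_true, Bool.or_eq_true, List.any_eq_true, beq_iff_eq, nat_beq] at h1
  rcases h1 O hO with ⟨⟨b, Os, Ot⟩, hm, rfl⟩ | h
  swap
  · exact d.fixed_cd hv hσ ((d.orb_data hO).2 r hr) (h r hr)
  have h2 := moversOK
  simp only [List.all_eq_true, Bool.and_eq_true, List.any_eq_true, beq_iff_eq] at h2
  obtain ⟨⟨hmv, O', hOt', rfl⟩, p, hp, hp'⟩ := h2 _ hm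
  dsimp only at *
  simp only [checkMover, Bool.and_eq_true, nat_beq, memB_iff, List.mem_range, List.all_eq_true,
    beq_iff_eq] at hmv
  obtain ⟨⟨⟨⟨hb, hbπ⟩, hbn⟩, hall⟩, hsrc⟩ := hmv
  set g := xg g0 b (1 : F)
  have hgM : g ∈ d.M := d.fixed_mem hbn hbπ (map_one _)
  obtain ⟨hQ, hcd⟩ := d.move hb 1 hv
  have hyH : g * v * g⁻¹ ∈ H := mul_mem (mul_mem (hM hgM) hvH) (inv_mem (hM hgM))
  set w := g * v * g⁻¹ * v⁻¹
  have hwH : w ∈ H := mul_mem hyH (inv_mem hvH)
  have hwQ : w ∈ d.Q := mul_mem hQ (inv_mem hv)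
  have hwσ : d.X.σ w = w := (d.X.G1_le w (hle hwH)).2
  have hw : ∀ k, one E6Data.tab k = true → d.cd w k =
      ((srcs E6Data.tab b k).map fun j => (mvC E6Data.tab b j : F) * 1 * d.cd v j).sum := by
    intro k hk
    rw [d.cd_mul hQ (inv_mem hv), d.cd_inv hv, hcd k hk]
    ring
  have hothers : ∀ O ∈ d.orbs, O ≠ O' → ∀ k ∈ O, d.ψ (d.cd w k) = d.cd w k := by
    intro O'' hO'' hne k hk
    have hk1 := (d.orb_data hO'').2 k hk
    rw [hw k hk1, map_list_sum, List.map_map]
    refine congrArg List.sum (List.map_congr_left fun j hj => ?_)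
    simp only [srcs, List.mem_filter, List.mem_range, Bool.and_eq_true, Bool.not_eq_true',
      nat_beq_false, nat_beq] at hj
    obtain ⟨hjn, ⟨hj1, hjne⟩, hjk⟩ := hj
    have h3 := allBelow_eq_true.1 hall j hjn
    simp only [hj1, Bool.not_true, Bool.false_or, Bool.or_eq_true, nat_beq, memB_iff] at h3
    rcases h3 with (h3 | h3) | h3
    · exact absurd h3 hjne
    · simp only [Function.comp_apply, map_mul, map_intCast, map_one, d.fixed_cd hv hσ hj1 h3]
    · refine absurd ?_ hne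
      rw [hjk] at h3
      by_contra hne'
      have hnd := List.nodup_flatten.1 d.orbs_nodup
      obtain ⟨i, hi, rfl⟩ := List.mem_iff_getElem.1 hO''
      obtain ⟨i', hi', rfl⟩ := List.mem_iff_getElem.1 hOt'
      rcases lt_trichotomy i i' with hlt | hlt | hlt
      · exact List.pairwise_iff_getElem.1 hnd.2 i i' hi hi' hlt hk h3
      · subst hlt; exact hne' rfl
      · exact List.pairwise_iff_getElem.1 hnd.2 i' i hi' hi hlt h3 hk
  obtain ⟨⟨⟨ht, hC⟩, ho⟩, hs⟩ := hsrc r hr
  have h4 := d.orbit_rat hM hOt' (hp' ▸ hS p hp) hwH hwQ hwσ hothers ht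
  rw [hw _ ho, hs] at h4
  simp only [List.map_cons, List.map_nil, List.sum_cons, List.sum_nil, add_zero, mul_one, map_mul,
    map_intCast] at h4
  exact mul_left_cancel₀ (unit1_ne hC) h4

/-- an irrational orbit element in `H` gives everything -/
theorem all_of_bad {p : List ℕ × List ℕ} (hp : p ∈ pairs) {a : ℕ → F} (ha : sProd g0 p.1 a ∈ H)
    (hbad : sProd g0 p.1 a ∉ ratS E6Data.tab (psi hq hK)) :
    H = (tw hq hK).X.G1 := by
  set d := tw hq hK with hd
  obtain ⟨n, hn, t, et⟩ := toP hq hK (List.all_eq_true.1 pairsOK p hp)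
    (sProd_mem g0 (S := {r | r ∈ p.1}) (fun r hr => hr) a) (hle ha)
  have htH : eP F q 2 4 t ∈ H := et ▸ mul_mem (mul_mem (hM hn) ha) (inv_mem (hM hn))
  have ht : psi hq hK t ≠ t := fun e => hbad (by
    have := mul_mem (mul_mem (inv_mem (d.M_rat hn)) (d.M_rat (eP_rat' hq hK e))) (d.M_rat hn)
    rw [← et] at this
    simpa [mul_assoc] using this)
  have hsmul : ∀ l : F, psi hq hK l = l → ∀ x, eP F q 2 4 x ∈ H → eP F q 2 4 (l * x) ∈ H := by
    intro l hl x hx
    by_cases hl0 : l = 0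
    · rw [hl0, zero_mul]; exact hM (eP_rat' hq hK (map_zero _))
    set u : Fˣ := (Units.mk0 l hl0)⁻¹
    have hu : psi hq hK (u : F) = u := by simp [u, map_inv₀, hl]
    have h := mul_mem (mul_mem (hM (hE_mem hq hK hu)) hx) (inv_mem (hM (hE_mem hq hK hu)))
    convert h using 1
    have hpr : pr E6Data.tab (E6Data.tab.smp 3) (E6Data.tab.smp 2) = -1 ∧
        pr E6Data.tab (E6Data.tab.smp 3) (E6Data.tab.smp 4) = -1 ∧
        E6Data.tab.smp 3 < E6Data.tab.n ∧ E6Data.tab.smp 2 < E6Data.tab.n ∧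
        E6Data.tab.smp 4 < E6Data.tab.n := by decide +kernel
    obtain ⟨e2, e4, h3, n2, n4⟩ := hpr
    rw [eP, eP, show ∀ A B X : GL E6Data.tab.D.Idx F, X * (A * B) * X⁻¹ =
        (X * A * X⁻¹) * (X * B * X⁻¹) from fun A B X => by group,
      hE_xg g0 h3 n2, hE_xg g0 h3 n4, e2, e4]
    have hl' : l ^ q = l := by rw [← psi_apply hq hK, hl]
    simp [u, mul_pow, hl']
  have hall : ∀ x : F, eP F q 2 4 x ∈ H := by
    intro x
    have hne : t - psi hq hK t ≠ 0 := sub_ne_zero.2 (Ne.symm ht)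
    set b := (x - psi hq hK x) / (t - psi hq hK t) with hb
    have hψb : psi hq hK b = b := by
      rw [hb, map_div₀, map_sub, map_sub, psi2, psi2, ← neg_sub x, ← neg_sub t, neg_div_neg_eq]
    have hψa : psi hq hK (x - b * t) = x - b * t := by
      have : b * (t - psi hq hK t) = x - psi hq hK x := div_mul_cancel₀ _ hne
      rw [map_sub, map_mul, hψb]
      linear_combination this
    have h := mul_mem (hM (eP_rat' hq hK hψa)) (hsmul b hψb t htH)
    rwa [eP_add hq hK, sub_add_cancel] at h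
  have pull : ∀ {Ls O : List ℕ}, simpleB Ls O = true → ∀ x ∈ genS g0 F {r | r ∈ O},
      x ∈ d.X.G1 → x ∈ H := by
    intro Ls O h x hx hxG
    obtain ⟨m, hm, s, es⟩ := toP hq hK h hx hxG
    have := mul_mem (mul_mem (inv_mem (hM hm)) (hall s)) (hM hm)
    rw [← es] at this
    simpa [mul_assoc] using this
  refine le_antisymm hle ?_
  show TwE6.tw F q ≤ H
  rw [TwE6.tw, genSubgroup_eq g0, Subgroup.closure_le]
  rintro x ⟨w, hw, rfl⟩
  have hwG : (w.map fun e => xg g0 e.1 e.2).prod ∈ d.X.G1 := word_mem g0 hw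
  rcases hw with ⟨l, hl, r, -, rfl⟩ | ⟨l, rs, hrs, rfl⟩
  · refine hM (Subgroup.mem_inf.2 ⟨hwG, ?_⟩)
    simp only [List.map_cons, List.map_nil, List.prod_cons, List.prod_nil, mul_one]
    exact fixElem_le_ratS g0 _ (xg_mem_fixElem g0 r (by rw [psi_apply, hl]))
  · have hmem : ([(rs.1, l), (rs.2, l ^ q)].map fun e => xg g0 e.1 e.2).prod ∈
        genS g0 F {r | r ∈ [rs.1, rs.2]} := by
      simp only [List.map_cons, List.map_nil, List.prod_cons, List.prod_nil, mul_one]
      exact mul_mem (xg_mem_genS g0 (by simp) _) (xg_mem_genS g0 (by simp) _)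
    simp only [List.mem_cons, List.not_mem_nil, or_false] at hrs
    rcases hrs with rfl | rfl | rfl | rfl
    · exact pull (Ls := [3, 2]) (by decide +kernel) _ hmem hwG
    · exact pull (Ls := [2, 3, 2]) (by decide +kernel) _ hmem hwG
    · exact pull (Ls := []) (by decide +kernel) _ hmem hwG
    · exact pull (Ls := [2]) (by decide +kernel) _ hmem hwG

/-- the rational points are maximal -/
theorem maximal : H = (tw hq hK).M ∨ H = (tw hq hK).X.G1 := by
  by_cases hS : ∀ p ∈ pairs, ∀ a : ℕ → F, sProd g0 p.1 a ∈ H →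
      sProd g0 p.1 a ∈ ratS E6Data.tab (psi hq hK)
  · exact Or.inl ((tw hq hK).eq_M ⟨leviOK, sgnOK, langOK, hM, hle, rad hq hK hM hle hS⟩)
  · push Not at hS
    obtain ⟨p, hp, a, ha, hbad⟩ := hS
    exact Or.inr (all_of_bad hq hK hM hle hp ha hbad)

end

end Cfsg.Agent.TwMax.E6
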