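import Cfsg.Agent.Lib.TwMax.Levi

/-!
# The elements of a group above the rational points are rational

The hypothesis is that this holds for the radical of the parabolic subgroup of the highest root.
-/

set_option autoImplicit false

namespace Cfsg.Agent.TwMax

open Cfsg.Lie Cfsg.Agent.Chev Cfsg.Agent.Chev.Tab Cfsg.Agent.ChevAut Cfsg.Agent.SFMax
open Matrix hiding zpow_mul inv_zpow mul_inv_rev zpow_add zpow_neg

/-- facts used for the fixed long roots -/
def checkLang (T : Tab) (Sy : Sym) : Bool :=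
  allBelow (fun r => !(fixedB Sy r) || Nat.beq r 0 || Nat.beq r (top T) ||
    trm T r (top T) List.isEmpty || anyBelow (fun v => one T v && fixedB Sy v &&
      trm T r (top T) (single v) && trm T r v List.isEmpty) T.n) T.n &&
  fixedB Sy 0 &&
  anyBelow (fun s => fixedB Sy s && match rowOf T s (T.ix 0) with
    | [(a, 1, 0), (b, C, 1)] => Nat.beq a (T.ix 0) && Nat.ble T.l b && Nat.blt b (T.l + T.n) &&
        fixedB Sy (b - T.l) && unit1 C
    | _ => false) T.n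

variable {T : Tab} {K : List (List ℕ)} {W : List (ℕ × ℕ × ℕ)} {S : List ℕ} {F : Type*} [Field F]

namespace TW

/-- a group between the rational points and the twisted group, with rational radical -/
structure Ov (d : TW T K W S F) (H : Subgroup (GL T.D.Idx F)) : Prop where
  levi : checkLevi T d.Sy = true
  sgn : checkSgn d.Sy d.orbs = true
  lang : checkLang T d.Sy = true
  le : d.M ≤ H
  leG : H ≤ d.X.G1
  rad : ∀ v ∈ H, v ∈ d.Q → v ∈ ratS T d.ψ

variable (d : TW T K W S F)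
include d

/-- A twisted element moving the highest root group to a rational place comes from `M`. -/
theorem lang_top {x : GL T.D.Idx F} (hx : x ∈ d.X.G1) {τ : F} (hτ : τ ≠ 0)
    (h : x * xg d.g.toGood (top T) τ * x⁻¹ ∈ ratS T d.ψ) :
    ∃ m ∈ d.M, m⁻¹ * x ∈ T.D.parabolicSubgroup F (J0 T) := by
  have g := d.g
  have hg := d.g.toGood
  obtain ⟨hxG, -⟩ := d.X.G1_le x hx
  have hz : x⁻¹ * entryHom T d.ψ x ∈ T.D.parabolicSubgroup F (J0 T) := by
    rw [mem_ratS, map_mul, map_mul, map_inv, entryHom_xg] at h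
    refine stab_top g (mul_mem (inv_mem hxG) (entryHom_group hg d.ψ hxG)) (a := d.ψ τ) (b := τ)
      ((map_ne_zero d.ψ).2 hτ) ?_
    calc _ = x⁻¹ * (entryHom T d.ψ x * xg hg (top T) (d.ψ τ) * (entryHom T d.ψ x)⁻¹) * x := by
          group
      _ = _ := by rw [h]; group
  obtain ⟨v, hv, hvG, L, hL, hcomm, c, hmG, u, hu, -, e⟩ := d.X.g1_decomp hx
  set n₁ := tor T F c * nWd hg F L
  have hr := rw'_lt hg hL (top_lt g)
  obtain ⟨L', hL', hcomm', hnM, eL'⟩ := d.fixed_word hr (by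
    rw [← hcomm _ (top_lt g), d.π_top])
  set n := nWd hg F L' with hndef
  obtain ⟨ε, hε, hc⟩ := nWd_conj (F := F) hg hL' (top_lt g)
  obtain ⟨w, hw⟩ := mono_conj (F := F) hg hL c (top_lt g)
  -- `x = v n p`
  have hp : n⁻¹ * n₁ * u ∈ T.D.parabolicSubgroup F (J0 T) := by
    refine mul_mem ?_ (Subgroup.mem_sup_left (genS_pos_le_borel hg (fun r hr => hr)
      (uMinus_le_pos hg L hu)))
    refine stab_top g (mul_mem (inv_mem (d.M_group hnM)) (d.X.G1_le_group hmG)) (a := (1 : F))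
      (b := (ε : F) * ((w : F) * 1)) one_ne_zero ?_
    have h1 := (hc ((ε : F) * ((w : F) * 1))).1
    rw [eL', ← hndef, show (ε : F) * ((ε : F) * ((w : F) * 1)) = (w : F) * 1 by
      rw [← mul_assoc, ← Units.val_mul, hε, Units.val_one, one_mul]] at h1
    calc _ = n⁻¹ * (n₁ * xg hg (top T) 1 * n₁⁻¹) * n := by group
      _ = _ := by rw [hw, ← h1]; group
  -- split `v`
  set A : Set ℕ := {r | (T.N ≤ r ∧ r < T.n) ∧ grd T (T.rw' L'.reverse r) < 0}
  set B : Set ℕ := {r | (T.N ≤ r ∧ r < T.n) ∧ 0 ≤ grd T (T.rw' L'.reverse r)}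
  obtain ⟨a, ha, cc, hcc, e0⟩ := BTi.split_two g.toGoodA (BTi.cl_pos hg) (A := A) (B := B)
    (fun r hr => (lt_or_ge (grd T (T.rw' L'.reverse r)) 0).imp (fun h => ⟨hr, h⟩)
      (fun h => ⟨hr, h⟩)) T.n T.N (by omega) v (by rwa [Set.inter_self])
  have hcr := d.X.neg_comm_rev hL' hcomm'
  have hinv : ∀ r, T.N ≤ r ∧ r < T.n → (T.N ≤ d.X.π r ∧ d.X.π r < T.n) ∧
      grd T (T.rw' L'.reverse (d.X.π r)) = grd T (T.rw' L'.reverse r) := fun r hr => by
    refine ⟨⟨(d.X.π_pos r hr.2).2 hr.1, d.X.π_lt r hr.2⟩, ?_⟩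
    rw [hcr r hr.2, (d.row (rw'_lt hg hL'.reverse hr.2)).1]
  have conj : ∀ {r : ℕ}, r < T.n → ∀ t : F, ∃ t' : F,
      n⁻¹ * xg hg r t * n = xg hg (T.rw' L'.reverse r) t' := by
    intro r hr t
    obtain ⟨δ, hδ, hcj⟩ := nWd_conj (F := F) hg hL' (rw'_lt hg hL'.reverse hr)
    refine ⟨(δ : F) * t, ?_⟩
    have h1 := (hcj ((δ : F) * t)).1
    rw [rw'_rev' hg hL' hr, ← hndef, ← mul_assoc, ← Units.val_mul, hδ, Units.val_one, one_mul] at h1
    rw [← h1]; group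
  have hBP : ∀ y ∈ genS hg F B, n⁻¹ * y * n ∈ T.D.parabolicSubgroup F (J0 T) := by
    intro y hy
    have hle : genS hg F B ≤
        (T.D.parabolicSubgroup F (J0 T)).comap (MulAut.conj n⁻¹).toMonoidHom := by
      refine genS_le hg fun r hr t => ?_
      obtain ⟨t', ht'⟩ := conj hr.1.2 t
      simp only [Subgroup.mem_comap, MulEquiv.coe_toMonoidHom, MulAut.conj_apply, inv_inv, ht']
      rw [parabolic_eq hg, ← Jf_grd g]
      exact Subgroup.mem_sup_right (xg_mem_genS hg (nonneg_mem g.toGoodK (grd_isLin g) (grd_dom g)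
        (rw'_lt hg hL'.reverse hr.1.2) (by exact_mod_cast hr.2)) _)
    simpa using hle hy
  have hAO : ∀ y ∈ genS hg F A,
      n⁻¹ * y * n ∈ genS hg F {r | r < T.n ∧ T.neg r ∈ T.outJ (J0 T)} := by
    intro y hy
    have hle : genS hg F A ≤ (genS hg F {r | r < T.n ∧ T.neg r ∈ T.outJ (J0 T)}).comap
        (MulAut.conj n⁻¹).toMonoidHom := by
      refine genS_le hg fun r hr t => ?_
      obtain ⟨t', ht'⟩ := conj hr.1.2 t
      simp only [Subgroup.mem_comap, MulEquiv.coe_toMonoidHom, MulAut.conj_apply, inv_inv, ht']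
      have hlt := rw'_lt hg hL'.reverse hr.1.2
      refine xg_mem_genS hg (S := {r | r < T.n ∧ T.neg r ∈ T.outJ (J0 T)})
        (r := T.rw' L'.reverse r) ⟨hlt, ?_⟩ _
      rw [← Jf_grd g]
      exact neg_mem_out g.toGoodK (grd_isLin g) (grd_dom g) hlt (by exact_mod_cast hr.2)
    simpa using hle hy
  have hsame : ∀ {a' cc' : GL T.D.Idx F}, a' ∈ genS hg F A → cc' ∈ genS hg F B →
      a * cc = a' * cc' → a' = a := by
    intro a' cc' ha' hcc' e1
    have h1 : a⁻¹ * a' = cc * cc'⁻¹ := by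
      rw [inv_mul_eq_iff_eq_mul, ← mul_assoc, e1, mul_inv_cancel_right]
    have h2 := parab_inf_opp g.toGoodK (J0 T) (h1 ▸ hBP _ (mul_mem hcc (inv_mem hcc')))
      (hAO _ (mul_mem (inv_mem ha) ha'))
    have h3 : a⁻¹ * a' = 1 := by
      have := congrArg (fun y => n * y * n⁻¹) h2
      simpa [mul_assoc] using this
    exact (inv_mul_eq_one.1 h3).symm
  have hapos : a ∈ genS hg F (Set.Ico T.N T.n) := genS_mono hg (fun r hr => hr.1) ha
  have hσa : d.X.σ a = a := by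
    refine hsame (genS_mono hg ?_ (d.X.σ_genS (fun r hr => hr.1.2) ha))
      (genS_mono hg ?_ (d.X.σ_genS (fun r hr => hr.1.2) hcc)) ?_
    · rintro _ ⟨r, hr, rfl⟩
      exact ⟨(hinv r hr.1).1, by rw [(hinv r hr.1).2]; exact hr.2⟩
    · rintro _ ⟨r, hr, rfl⟩
      exact ⟨(hinv r hr.1).1, by rw [(hinv r hr.1).2]; exact hr.2⟩
    · rw [← d.X.σ_mul _ (genS_le_group hg ha) _ (genS_le_group hg hcc), ← e0]
      exact ((d.X.G1_le v hvG).2).symm
  set p := n⁻¹ * cc * n * (n⁻¹ * n₁ * u)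
  have hpP : p ∈ T.D.parabolicSubgroup F (J0 T) := mul_mem (hBP _ hcc) hp
  have ex : x = a * n * p := by rw [e, e0]; simp only [p]; group
  have hψa : entryHom T d.ψ a = a := by
    have h1 := mul_mem (mul_mem hpP hz) (inv_mem (entryHom_parab hg d.ψ hpP))
    rw [ex, map_mul, map_mul, mem_ratS.1 (d.M_rat hnM)] at h1
    have h2 : n⁻¹ * (a⁻¹ * entryHom T d.ψ a) * n ∈ T.D.parabolicSubgroup F (J0 T) := by
      convert h1 using 1
      group
    have h3 := parab_inf_opp g.toGoodK (J0 T) h2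
      (hAO _ (mul_mem (inv_mem ha) (entryHom_genS hg d.ψ ha)))
    have h4 : a⁻¹ * entryHom T d.ψ a = 1 := by
      have := congrArg (fun y => n * y * n⁻¹) h3
      simpa [mul_assoc] using this
    exact (inv_mul_eq_one.1 h4).symm
  refine ⟨a * n, mul_mem (Subgroup.mem_inf.2 ⟨d.X.pos_fixed_mem hapos hσa, hψa⟩) hnM, ?_⟩
  rw [ex, inv_mul_cancel_left]
  exact hpP

/-- Position of a conjugate of the lowest root group. -/
theorem exists_form (h0 : d.X.π 0 = 0) {h : GL T.D.Idx F} (hh : h ∈ d.X.G1) :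
    ∃ u ∈ genS d.g.toGood F (Set.Ico T.N T.n), u ∈ d.X.G1 ∧ ∃ r < T.n, d.X.π r = r ∧ ∃ χ : Fˣ,
      d.ψ (χ : F) = χ ∧
      (∀ t : F, h * xg d.g.toGood 0 t * h⁻¹ = u * xg d.g.toGood r ((χ : F) * t) * u⁻¹) ∧
      (h : Matrix T.D.Idx T.D.Idx F) *ᵥ bas T F (T.l + 0) =
        (χ : F) • ((u : Matrix T.D.Idx T.D.Idx F) *ᵥ bas T F (T.l + r)) := by
  have g := d.g
  have hg := d.g.toGood
  obtain ⟨L₀, hL₀, -, hn0, e0⟩ := d.fixed_word (n_pos g) h0
  obtain ⟨ε, hε1, hε2⟩ := nWd_conj_col (F := F) hg hL₀ (top_lt g)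
  rw [e0] at hε1 hε2
  set n0 := nWd hg F L₀
  have hεψ : d.ψ (ε : F) = ε := by
    have h1 := d.M_rat (mul_mem (mul_mem hn0 (d.xg_top_mem (map_one d.ψ))) (inv_mem hn0))
    rw [hε1, mul_one] at h1
    exact (xg_ratS_iff hg (n_pos g)).1 h1
  obtain ⟨v, hv, hvG, L, hL, hcomm, c, hmG, u1, hu1, -, e⟩ :=
    d.X.g1_decomp (mul_mem hh (d.M_G1 hn0))
  obtain ⟨w, hw1, hw2⟩ := mono_conj_col (F := F) hg hL c (top_lt g)
  have hr := rw'_lt hg hL (top_lt g)
  have hπ : d.X.π (T.rw' L (top T)) = T.rw' L (top T) := by rw [← hcomm _ (top_lt g), d.π_top]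
  have hu1' := uMinus_le_pos hg L hu1
  have hwψ : d.ψ (w : F) = w := by
    refine d.G1_fixed hr hπ ?_
    have h1 := hw1 1
    rw [mul_one] at h1
    rw [← h1]
    exact mul_mem (mul_mem hmG (d.M_G1 (d.xg_top_mem (map_one _)))) (inv_mem hmG)
  refine ⟨v, hv, hvG, _, hr, hπ, w * ε⁻¹, ?_, fun t => ?_, ?_⟩
  · rw [Units.val_mul, Units.val_inv_eq_inv_val, map_mul, map_inv₀, hwψ, hεψ]
  · have h1 := hε1 ((ε⁻¹ : Fˣ) * t)
    rw [← mul_assoc, Units.mul_inv, one_mul] at h1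
    rw [← h1, show h * (n0 * xg hg (top T) ((ε⁻¹ : Fˣ) * t) * n0⁻¹) * h⁻¹ =
      (h * n0) * xg hg (top T) ((ε⁻¹ : Fˣ) * t) * (h * n0)⁻¹ by group, e,
      show ∀ A B C X : GL T.D.Idx F, A * B * C * X * (A * B * C)⁻¹ =
        A * (B * (C * X * C⁻¹) * B⁻¹) * A⁻¹ from fun A B C X => by group,
      (pos_commute_top g hu1' _).symm.eq, mul_inv_cancel_right, hw1, Units.val_mul,
      mul_assoc (w : F)]
  · have h3 : (h : Matrix T.D.Idx T.D.Idx F) *ᵥ ((ε : F) • bas T F (T.l + 0)) =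
        (w : F) • ((v : Matrix T.D.Idx T.D.Idx F) *ᵥ bas T F (T.l + T.rw' L (top T))) := by
      rw [← hε2, mulVec_mulVec, ← Units.val_mul, e, Units.val_mul, ← mulVec_mulVec,
        pos_fix_top g hu1', Units.val_mul, ← mulVec_mulVec, hw2, mulVec_smul]
    rw [mulVec_smul] at h3
    have h4 := congrArg (fun y => (ε : F)⁻¹ • y) h3
    simp only [smul_smul, inv_mul_cancel₀ (Units.ne_zero ε), one_smul] at h4
    rw [h4, Units.val_mul, Units.val_inv_eq_inv_val, mul_comm]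

section
variable {H : Subgroup (GL T.D.Idx F)} (hO : d.Ov H)
include hO

theorem parab_rat {h : GL T.D.Idx F} (hh : h ∈ H) (hP : h ∈ T.D.parabolicSubgroup F (J0 T)) :
    h ∈ ratS T d.ψ :=
  d.parab hO.levi hO.sgn hO.le hO.leG hO.rad hh hP

theorem conj_rat {h : GL T.D.Idx F} (hh : h ∈ H)
    (hy : h * xg d.g.toGood (top T) 1 * h⁻¹ ∈ ratS T d.ψ) : h ∈ ratS T d.ψ := by
  obtain ⟨m, hm, hp⟩ := d.lang_top (hO.leG hh) one_ne_zero hy
  have := mul_mem (d.M_rat hm) (d.parab_rat hO (mul_mem (inv_mem (hO.le hm)) hh) hp)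
  rwa [mul_inv_cancel_left] at this

/-- An element of `H` commuting with a rational conjugate of a highest root element is rational. -/
theorem comm_rat {y x : GL T.D.Idx F} (hy : y ∈ H) (hx : x ∈ d.X.G1) {τ : F} (hτ : τ ≠ 0)
    (hw : x * xg d.g.toGood (top T) τ * x⁻¹ ∈ ratS T d.ψ)
    (hc : Commute y (x * xg d.g.toGood (top T) τ * x⁻¹)) : y ∈ ratS T d.ψ := by
  have g := d.g
  have hg := d.g.toGood
  obtain ⟨m, hm, hp⟩ := d.lang_top hx hτ hw
  obtain ⟨χ, hχ⟩ := parab_top g hp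
  have e : x * xg hg (top T) τ * x⁻¹ = m * xg hg (top T) ((χ : F) * τ) * m⁻¹ := by
    rw [← hχ]; group
  have hy' : m⁻¹ * y * m ∈ H := mul_mem (mul_mem (inv_mem (hO.le hm)) hy) (hO.le hm)
  have hcc : Commute (m⁻¹ * y * m) (xg hg (top T) ((χ : F) * τ)) := by
    rw [e] at hc
    show _ = _
    calc m⁻¹ * y * m * xg hg (top T) ((χ : F) * τ)
        = m⁻¹ * (y * (m * xg hg (top T) ((χ : F) * τ) * m⁻¹)) * m := by group
      _ = m⁻¹ * ((m * xg hg (top T) ((χ : F) * τ) * m⁻¹) * y) * m := by rw [hc.eq]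
      _ = _ := by group
  have h1 := d.parab_rat hO hy' (commute_stab g (d.X.G1_le_group (hO.leG hy'))
    (mul_ne_zero χ.ne_zero hτ) hcc)
  have := mul_mem (mul_mem (d.M_rat hm) h1) (inv_mem (d.M_rat hm))
  simpa [mul_assoc] using this

/-- For `h ∈ H` not rational, the conjugate of the lowest root group lies over the lowest root. -/
theorem irr_form {h : GL T.D.Idx F} (hh : h ∈ H) (hirr : h ∉ ratS T d.ψ) :
    ∃ u ∈ genS d.g.toGood F (Set.Ico T.N T.n), ∃ χ : Fˣ, d.ψ (χ : F) = χ ∧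
      (h : Matrix T.D.Idx T.D.Idx F) *ᵥ bas T F (T.l + 0) =
        (χ : F) • ((u : Matrix T.D.Idx T.D.Idx F) *ᵥ bas T F (T.l + 0)) := by
  have g := d.g
  have hg := d.g.toGood
  have hchk := hO.lang
  simp only [checkLang, Bool.and_eq_true, d.fixedB_iff] at hchk
  obtain ⟨⟨hrows, hπ0⟩, -⟩ := hchk
  obtain ⟨u, hu, huG, r, hr, hπr, χ, hχψ, h1, h2⟩ := d.exists_form hπ0 (hO.leG hh)
  suffices hr0 : r = 0 by subst hr0; exact ⟨u, hu, χ, hχψ, h2⟩
  by_contra hr0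
  set y := h * xg hg 0 1 * h⁻¹ with hy
  have hyH : y ∈ H :=
    mul_mem (mul_mem hh (hO.le (d.fixed_mem (n_pos g) hπ0 (map_one _)))) (inv_mem hh)
  have hye : y = u * xg hg r (χ : F) * u⁻¹ := by rw [hy, h1, mul_one]
  have huc : ∀ t : F, Commute u (xg hg (top T) t) := fun t => (pos_commute_top g hu t).symm
  -- it suffices that `y` be rational
  have done : y ∈ ratS T d.ψ → False := by
    intro hyr
    obtain ⟨L₀, hL₀, -, hn, e0⟩ := d.fixed_word (n_pos g) hπ0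
    obtain ⟨ε, hεε, hc⟩ := nWd_conj (F := F) hg hL₀ (top_lt g)
    refine hirr ?_
    have hrat : (h * nWd hg F L₀) * xg hg (top T) 1 * (h * nWd hg F L₀)⁻¹ ∈ ratS T d.ψ := by
      rw [show h * nWd hg F L₀ * xg hg (top T) 1 * (h * nWd hg F L₀)⁻¹ =
        h * (nWd hg F L₀ * xg hg (top T) 1 * (nWd hg F L₀)⁻¹) * h⁻¹ by group, (hc 1).1, e0, mul_one]
      rcases mul_self_eq_one_iff.1
        (show (ε : F) * ε = 1 by rw [← Units.val_mul, hεε, Units.val_one]) with e | e <;> rw [e]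
      · exact hyr
      · rw [← xg_inv, show h * (xg hg 0 (1 : F))⁻¹ * h⁻¹ = y⁻¹ by rw [hy]; group]
        exact inv_mem hyr
    have := mul_mem (d.conj_rat hO (mul_mem hh (hO.le hn)) hrat) (inv_mem (d.M_rat hn))
    rwa [mul_inv_cancel_right] at this
  have hyG : y ∈ T.D.group F := d.X.G1_le_group (hO.leG hyH)
  by_cases hrR : r = top T
  · subst hrR
    refine done (d.parab_rat hO hyH (commute_stab g hyG one_ne_zero ?_))
    rw [hye]
    exact (((huc 1).mul_left (commute_self _ _ _ _)).mul_left (huc 1).inv_left)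
  have h3 := allBelow_eq_true.1 hrows r hr
  simp only [Bool.or_eq_true, Bool.not_eq_true', nat_beq, anyBelow_eq_true, Bool.and_eq_true,
    d.fixedB_iff] at h3
  rcases h3 with (((h3 | h3) | h3) | hc) | ⟨v, hv, ⟨⟨hv1, hvπ⟩, htr⟩, hrv⟩
  · exact absurd (d.fixedB_iff.2 hπr) (by simp [h3])
  · exact hr0 h3
  · exact hrR h3
  · refine done (d.parab_rat hO hyH (commute_stab g hyG one_ne_zero ?_))
    rw [hye]
    exact (((huc 1).mul_left (commute_nil g.toGoodA hc _ _)).mul_left (huc 1).inv_left)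
  obtain ⟨q1, q2, q3, q4, q5⟩ := trm_spec htr
  obtain ⟨C, eC, hC⟩ := single_spec q5
  set w := u * xg hg v ((C : F) * χ) * u⁻¹ with hw
  have ew : y * xg hg (top T) 1 * y⁻¹ = xg hg (top T) 1 * w := by
    rw [hye, hw]
    calc u * xg hg r (χ : F) * u⁻¹ * xg hg (top T) 1 * (u * xg hg r (χ : F) * u⁻¹)⁻¹
        = u * xg hg r (χ : F) * (u⁻¹ * xg hg (top T) 1 * u) * (xg hg r (χ : F))⁻¹ * u⁻¹ := by group
      _ = u * (xg hg r (χ : F) * xg hg (top T) 1 * (xg hg r (χ : F))⁻¹) * u⁻¹ := by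
          rw [show u⁻¹ * xg hg (top T) 1 * u = xg hg (top T) (1 : F) by
            rw [mul_assoc, ← (huc 1).eq, inv_mul_cancel_left]]
          group
      _ = u * (xg hg (top T) 1 * xg hg v ((C : F) * χ)) * u⁻¹ := by
          rw [conj_terms g.toGoodA q1 q2 q3 q4, eC]; simp
      _ = _ := by rw [← mul_assoc u, (huc 1).eq]; group
  have hwH : w ∈ H := by
    have hR := hO.le (d.xg_top_mem (map_one _))
    have h4 := mul_mem (mul_mem hyH hR) (inv_mem hyH)
    rw [ew] at h4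
    exact (Subgroup.mul_mem_cancel_left _ hR).1 h4
  have hwc : Commute w (xg hg (top T) 1) :=
    ((huc 1).mul_left (commute_top g (one_iff.1 hv1).2.1 (Or.inl (one_iff.1 hv1).1) _ _).symm).mul_left
      (huc 1).inv_left
  have hwr : w ∈ ratS T d.ψ :=
    d.parab_rat hO hwH (commute_stab g (d.X.G1_le_group (hO.leG hwH)) one_ne_zero hwc)
  obtain ⟨L, hL, -, hnL, eL⟩ := d.fixed_word hv hvπ
  obtain ⟨ε, -, hcv⟩ := nWd_conj (F := F) hg hL (top_lt g)
  set x := u * nWd hg F L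
  have hx : x ∈ d.X.G1 := mul_mem huG (d.M_G1 hnL)
  have hxw : x * xg hg (top T) ((ε⁻¹ : Fˣ) * ((C : F) * χ)) * x⁻¹ = w := by
    have h4 := (hcv ((ε⁻¹ : Fˣ) * ((C : F) * χ))).1
    rw [eL, ← mul_assoc (ε : F), Units.mul_inv, one_mul] at h4
    rw [hw, ← h4]; simp only [x]; group
  refine done (d.comm_rat hO hyH hx (mul_ne_zero (Units.ne_zero _)
    (mul_ne_zero (unit1_ne hC) χ.ne_zero)) (hxw ▸ hwr) ?_)
  rw [hxw, hye, hw]
  have := (commute_nil g.toGoodA hrv (χ : F) ((C : F) * χ)).map (MulAut.conj u).toMonoidHom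
  simpa using this

/-- Everything in `H` is rational. -/
theorem all_rat {h : GL T.D.Idx F} (hh : h ∈ H) : h ∈ ratS T d.ψ := by
  classical
  by_contra hirr
  have g := d.g
  have hg := d.g.toGood
  have hn := n_pos g
  have hchk := hO.lang
  simp only [checkLang, Bool.and_eq_true, anyBelow_eq_true, d.fixedB_iff] at hchk
  obtain ⟨⟨-, hπ0⟩, s, hs, hsπ, hrow⟩ := hchk
  set vec : GL T.D.Idx F → T.D.Idx → F := fun y =>
    (y : Matrix T.D.Idx T.D.Idx F) *ᵥ bas T F (T.l + 0) with hvec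
  have hvmul : ∀ m y : GL T.D.Idx F, vec (m * y) = (m : Matrix T.D.Idx T.D.Idx F) *ᵥ vec y :=
    fun m y => by simp only [hvec, Units.val_mul, mulVec_mulVec]
  have hmv : ∀ m ∈ d.M, ∀ y : GL T.D.Idx F, y ∈ H → y ∉ ratS T d.ψ →
      m * y ∈ H ∧ m * y ∉ ratS T d.ψ := fun m hm y hy hy' =>
    ⟨mul_mem (hO.le hm) hy, fun e => hy' (by
      have := mul_mem (inv_mem (d.M_rat hm)) e
      rwa [inv_mul_cancel_left] at this)⟩
  -- the coordinate at the lowest root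
  have hlow : ∀ y ∈ H, y ∉ ratS T d.ψ →
      d.ψ (ev (vec y) (T.l + 0)) = ev (vec y) (T.l + 0) ∧ ev (vec y) (T.l + 0) ≠ 0 := by
    intro y hy hy'
    obtain ⟨u, hu, χ, hχ, e⟩ := d.irr_form hO hy hy'
    obtain ⟨i, hi⟩ := exists_code hg (show T.l + 0 < T.l + T.n by omega)
    have h1 : ev (vec y) (T.l + 0) = χ := by
      simp only [hvec]
      rw [e, ev_smul, ← hi, ev_code hg, ← apply_eq_col hg, pos_UT hg hu i i le_rfl,
        Matrix.one_apply_eq, mul_one]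
    rw [h1]
    exact ⟨hχ, χ.ne_zero⟩
  -- rows of rational monomial elements
  have hrowM : ∀ {L : List ℕ}, T.Wd L → nWd hg F L ∈ d.M → ∀ {v : ℕ}, v < T.n →
      ∃ w : Fˣ, d.ψ (w : F) = w ∧
        ∀ y, ev (vec (nWd hg F L * y)) (T.l + T.rw' L v) = (w : F) * ev (vec y) (T.l + v) := by
    intro L hL hnM v hv
    obtain ⟨w, hw⟩ := nWd_row (F := F) hg hL hv
    refine ⟨w, ?_, fun y => by rw [hvmul, hw]⟩
    obtain ⟨i, hi⟩ := exists_code hg
      (show T.l + T.rw' L v < T.l + T.n by have := rw'_lt hg hL hv; omega)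
    obtain ⟨j, hj⟩ := exists_code hg (show T.l + v < T.l + T.n by omega)
    have h4 := hw (bas T F (T.l + v))
    rw [ev_bas hg (by omega), if_pos rfl, mul_one, ← hi, ev_code hg, ← hj,
      ← apply_eq_col hg] at h4
    rw [← h4, ← entryHom_apply, mem_ratS.1 (d.M_rat hnM)]
  -- the coordinate at the highest root
  have htop : ∀ y ∈ H, y ∉ ratS T d.ψ →
      d.ψ (ev (vec y) (T.l + top T)) = ev (vec y) (T.l + top T) ∧
        ev (vec y) (T.l + top T) ≠ 0 := by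
    intro y hy hy'
    obtain ⟨L₀, hL₀, -, hn0, e0⟩ := d.fixed_word hn hπ0
    obtain ⟨w, hwψ, hw⟩ := hrowM hL₀ hn0 (top_lt g)
    obtain ⟨a1, a2⟩ := hmv _ hn0 y hy hy'
    obtain ⟨b1, b2⟩ := hlow _ a1 a2
    have e := hw y
    rw [e0] at e
    rw [e] at b1 b2
    rw [map_mul, hwψ] at b1
    exact ⟨mul_left_cancel₀ w.ne_zero b1, (mul_ne_zero_iff.1 b2).2⟩
  have hfixed : ∀ v < T.n, d.X.π v = v → ∀ y ∈ H, y ∉ ratS T d.ψ →
      d.ψ (ev (vec y) (T.l + v)) = ev (vec y) (T.l + v) ∧ ev (vec y) (T.l + v) ≠ 0 := by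
    intro v hv hπ y hy hy'
    obtain ⟨L, hL, -, hnL, eL⟩ := d.fixed_word hv hπ
    obtain ⟨w, hwψ, hw⟩ := hrowM hL hnL (top_lt g)
    obtain ⟨a1, a2⟩ := hmv _ (inv_mem hnL) y hy hy'
    obtain ⟨b1, b2⟩ := htop _ a1 a2
    have e := hw ((nWd hg F L)⁻¹ * y)
    rw [eL, mul_inv_cancel_left] at e
    rw [e, map_mul, hwψ, b1]
    exact ⟨rfl, mul_ne_zero w.ne_zero b2⟩
  split at hrow
  swap
  · exact Bool.noConfusion hrow
  rename_i a b C heq
  simp only [Bool.and_eq_true, nat_beq, nat_ble, nat_blt, d.fixedB_iff] at hrow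
  obtain ⟨⟨⟨⟨rfl, hb1⟩, hb2⟩, hbπ⟩, hC⟩ := hrow
  obtain ⟨u, hu, rfl⟩ : ∃ u < T.n, b = T.l + u := ⟨b - T.l, by omega, by omega⟩
  rw [Nat.add_sub_cancel_left] at hbπ
  obtain ⟨hu1, hu2⟩ := hfixed u hu hbπ h hh hirr
  obtain ⟨h01, -⟩ := hlow h hh hirr
  set e0 := ev (vec h) (T.l + 0)
  set e1 := ev (vec h) (T.l + u)
  set t := -e0 / ((C : F) * e1) with ht
  have hψt : d.ψ t = t := by rw [ht, map_div₀, map_neg, map_mul, map_intCast, h01, hu1]
  obtain ⟨h1, h1'⟩ := hmv _ (d.fixed_mem hs hsπ hψt) h hh hirr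
  refine (hlow _ h1 h1').2 ?_
  rw [hvmul, xg_val, x_row hg hs t _ (by omega), show T.l + 0 = T.ix 0 from rfl, heq]
  simp only [List.map_cons, List.map_nil, List.sum_cons, List.sum_nil, pow_zero, pow_one,
    Int.cast_one, add_zero, mul_one, one_mul]
  show e0 + (C : F) * t * e1 = 0
  rw [ht]
  have := unit1_ne (F := F) hC
  field_simp
  ring

/-- `H` is the group of rational points. -/
theorem eq_M : H = d.M :=
  le_antisymm (fun _ hh => Subgroup.mem_inf.2 ⟨hO.leG hh, d.all_rat hO hh⟩) hO.le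

end

end TW

end Cfsg.Agent.TwMax
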