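import Cfsg.Agent.Lib.TwMax.Setup
import Cfsg.Agent.Lib.SubfieldMax.Rows

/-!
# The parabolic subgroup of the highest root meets `H` in rational elements

An element commuting with the fixed long root elements preserves the weight `∑ v ⟨·, v∨⟩` over the
fixed positive roots `v`; hence it is in the torus.
-/

set_option autoImplicit false

namespace Cfsg.Agent.TwMax

open Cfsg.Lie Cfsg.Agent.Chev Cfsg.Agent.Chev.Tab Cfsg.Agent.ChevAut Cfsg.Agent.SFMax
open Matrix hiding zpow_mul inv_zpow mul_inv_rev zpow_add zpow_neg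

/-- the root is fixed by the symmetry -/
def fixedB (Sy : Sym) (r : ℕ) : Bool := Nat.beq (Sy.π.getD r 0) r

/-- the weight -/
def wgt (T : Tab) (Sy : Sym) (r : ℕ) : ℤ :=
  sumBelow (fun v => bif fixedB Sy v && Nat.ble T.N v then (v : ℤ) * pr T v r else 0) T.n

/-- facts on the fixed roots -/
def checkLevi (T : Tab) (Sy : Sym) : Bool :=
  allBelow (fun r =>
    (!(Nat.ble T.N r) || decide (0 < wgt T Sy r)) &&
    (!(fixedB Sy r) || !(grd T r == -1) || anyBelow (fun v => one T v && fixedB Sy v &&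
      trm T 0 v (single r)) T.n) &&
    (!(fixedB Sy r) || !(grd T r == 0) || anyBelow (fun v => one T v && fixedB Sy v &&
      anyBelow (fun u => fixedB Sy u && grd T u == -1 && trm T v u (single r)) T.n) T.n)) T.n &&
  anyBelow (fun v => one T v && fixedB Sy v && anyBelow (fun u => trm T 0 v (single u) &&
    trm T (top T) u (single v)) T.n) T.n &&
  anyBelow (fun v => one T v && fixedB Sy v && anyBelow (fun m => one T m && fixedB Sy m &&
    trm T v m (single (top T))) T.n) T.n &&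
  allBelow (fun i => one T (T.smp i) || (grd T (T.smp i) == 0 && anyBelow (fun a => one T a &&
    anyBelow (fun b => one T b && trm T (T.smp i) a (single b)) T.n) T.n)) T.l

/-- signs on an orbit -/
def sgA (O : List ℕ) (k r : ℕ) : ℤ := bif Nat.testBit k (O.idxOf r) then -1 else 1

/-- every orbit carries rational signs compatible with the symmetry -/
def checkSgn (Sy : Sym) (orbs : List (List ℕ)) : Bool :=
  orbs.all fun O => anyBelow (fun k => O.all fun r =>
    sgA O k (Sy.π.getD r 0) == Sy.ζ.getD r 1 * sgA O k r) 8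

variable {T : Tab} {K : List (List ℕ)} {W : List (ℕ × ℕ × ℕ)} {S : List ℕ} {F : Type*} [Field F]

/-- supported on the roots of weight `≥ k` -/
def Up (T : Tab) (Sy : Sym) (k : ℤ) (e : T.D.Idx → F) : Prop :=
  ∀ a, e a ≠ 0 → ∃ r < T.n, T.code a = T.l + r ∧ k ≤ wgt T Sy r

theorem Up.mono {Sy : Sym} {k k' : ℤ} (h : k' ≤ k) {e : T.D.Idx → F} (he : Up T Sy k e) :
    Up T Sy k' e := fun a ha => by
  obtain ⟨r, h1, h2, h3⟩ := he a ha
  exact ⟨r, h1, h2, h.trans h3⟩

theorem Up.bas {Sy : Sym} {r : ℕ} (hr : r < T.n) : Up T Sy (wgt T Sy r) (bas T F (T.l + r)) :=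
  fun a ha => ⟨r, hr, by by_contra h; exact ha (bas_ne h), le_rfl⟩

theorem wgt_linear {Sy : Sym} {r s t : ℕ} {k : ℤ} (h : ∀ j < T.l, T.A j t = T.A j s + k * T.A j r) :
    wgt T Sy t = wgt T Sy s + k * wgt T Sy r := by
  simp only [wgt, sumBelow_eq_sum, Finset.mul_sum, ← Finset.sum_add_distrib]
  refine Finset.sum_congr rfl fun v _ => ?_
  cases fixedB Sy v && Nat.ble T.N v
  · simp
  simp only [cond_true, pr_eq, Finset.mul_sum, ← Finset.sum_add_distrib]
  refine Finset.sum_congr rfl fun j hj => ?_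
  rw [h j (Finset.mem_range.1 hj)]; ring

theorem wgt_neg (g : T.Good) {Sy : Sym} {r : ℕ} (hr : r < T.n) :
    wgt T Sy (T.neg r) = -wgt T Sy r := by
  simp only [wgt, sumBelow_eq_sum, ← Finset.sum_neg_distrib]
  refine Finset.sum_congr rfl fun v _ => ?_
  cases fixedB Sy v && Nat.ble T.N v
  · simp
  simp [pr_neg_right g hr]

/-- matrices preserve `Up` when they do so on basis vectors -/
theorem Up.mulVec (g : T.Good) {Sy : Sym} {k : ℤ} {M : Matrix T.D.Idx T.D.Idx F}
    (hM : ∀ r < T.n, k ≤ wgt T Sy r → Up T Sy k (M *ᵥ Chev.Tab.bas T F (T.l + r)))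
    {e : T.D.Idx → F} (he : Up T Sy k e) : Up T Sy k (M *ᵥ e) := by
  intro a ha
  rw [eq_sum_bas g e, mulVec_sum, Finset.sum_apply] at ha
  obtain ⟨b, -, hb⟩ := Finset.exists_ne_zero_of_sum_ne_zero ha
  rw [mulVec_smul, Pi.smul_apply, smul_eq_mul, mul_ne_zero_iff] at hb
  obtain ⟨r, hr, hc, hk⟩ := he b hb.1
  rw [hc] at hb
  exact hM r hr hk a hb.2

theorem pos_up (g : T.Good) {Sy : Sym} (hpos : ∀ r, T.N ≤ r → r < T.n → 0 < wgt T Sy r) {k : ℤ}
    (hk : 0 < k) {u : GL T.D.Idx F} (hu : u ∈ genS g F (Set.Ico T.N T.n)) {e : T.D.Idx → F}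
    (he : Up T Sy k e) : Up T Sy k ((u : Matrix T.D.Idx T.D.Idx F) *ᵥ e) := by
  have key : ∀ v : GL T.D.Idx F, v ∈ genS g F (Set.Ico T.N T.n) → ∀ e : T.D.Idx → F, Up T Sy k e →
      Up T Sy k ((v : Matrix T.D.Idx T.D.Idx F) *ᵥ e) := by
    intro v hv
    refine genS_induction g (p := fun v : GL T.D.Idx F => ∀ e : T.D.Idx → F, Up T Sy k e →
      Up T Sy k ((v : Matrix T.D.Idx T.D.Idx F) *ᵥ e)) (fun e he => by simpa using he) ?_ hv
    rintro r ⟨hrN, hr⟩ t y ih e he
    rw [Units.val_mul, ← mulVec_mulVec, xg_val]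
    refine Up.mulVec g (fun s hs hks a ha => ?_) (ih e he)
    by_cases h1 : s = r
    · subst h1
      rw [col_self g hr] at ha
      obtain ⟨q, hq, hc, hw⟩ := Up.bas (T := T) (F := F) (Sy := Sy) hr a ha
      exact ⟨q, hq, hc, hks.trans hw⟩
    have h2 : s ≠ T.neg r := fun h => by
      have := hpos r hrN hr
      rw [h, wgt_neg g hr] at hks
      omega
    rw [col_other g hr hs h1 h2] at ha
    by_cases h0 : Chev.Tab.bas T F (T.l + s) a = 0
    · rw [Pi.add_apply, h0, zero_add, list_sum_apply] at ha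
      obtain ⟨x, hx, hx0⟩ := List.exists_mem_ne_zero_of_sum_ne_zero ha
      simp only [List.mem_map] at hx
      obtain ⟨q, hq, rfl⟩ := hx
      have hne : T.ch r s ≠ [] := fun e => by simp [e] at hq
      have hq' : (q.1, q.2 + 1) ∈ (T.ch r s).zipIdx 1 := by
        rw [List.mk_mem_zipIdx_iff_le_and_getElem?_sub]
        exact ⟨by omega, by rw [Nat.add_sub_cancel]; exact (List.mk_mem_zipIdx_iff_getElem?).1 hq⟩
      obtain ⟨hlt, -, -, h4, -, -⟩ := chainOK_spec r s 1 _ (g.chain' hr hs hne).2.2.1 _ hq'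
      dsimp only at h4 hlt
      refine ⟨q.1.1, hlt, by by_contra hh; exact hx0 (by simp [bas_ne hh]), ?_⟩
      rw [wgt_linear h4]
      have := hpos r hrN hr
      have : (0 : ℤ) ≤ ((q.2 + 1 : ℕ) : ℤ) * wgt T Sy r := mul_nonneg (Int.natCast_nonneg _) this.le
      omega
    · obtain ⟨q, hq, hc, hw⟩ := Up.bas (T := T) (F := F) (Sy := Sy) hs a h0
      exact ⟨q, hq, hc, hks.trans hw⟩
  exact key u hu e he

namespace TW

variable (d : TW T K W S F)
include d

section
variable (hL : checkLevi T d.Sy = true)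
include hL

omit hL in
theorem fixedB_iff {r : ℕ} : fixedB d.Sy r = true ↔ d.X.π r = r := by
  rw [fixedB, nat_beq, d.π_eq]

theorem wgt_pos {r : ℕ} (hN : T.N ≤ r) (hr : r < T.n) : 0 < wgt T d.Sy r := by
  simp only [checkLevi, Bool.and_eq_true] at hL
  have h := allBelow_eq_true.1 hL.1.1.1 r hr
  simp only [Bool.and_eq_true, Bool.or_eq_true, Bool.not_eq_true', decide_eq_true_eq] at h
  refine h.1.1.resolve_left fun e => ?_
  rw [← Bool.not_eq_true, nat_ble] at e
  exact e hN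

theorem neg_one_row {r : ℕ} (hr : r < T.n) (hπ : d.X.π r = r) (hg : grd T r = -1) :
    ∃ v, one T v = true ∧ d.X.π v = v ∧ trm T 0 v (single r) = true := by
  simp only [checkLevi, Bool.and_eq_true] at hL
  have h := allBelow_eq_true.1 hL.1.1.1 r hr
  simp only [Bool.and_eq_true, Bool.or_eq_true, Bool.not_eq_true', anyBelow_eq_true,
    d.fixedB_iff] at h
  rcases h.1.2 with (h1 | h1) | ⟨v, -, ⟨h1, h2⟩, h3⟩
  · exact absurd (d.fixedB_iff.2 hπ) (by simp [h1])
  · simp [hg] at h1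
  · exact ⟨v, h1, h2, h3⟩

theorem zero_row {r : ℕ} (hr : r < T.n) (hπ : d.X.π r = r) (hg : grd T r = 0) :
    ∃ v u, one T v = true ∧ d.X.π v = v ∧ u < T.n ∧ d.X.π u = u ∧ grd T u = -1 ∧
      trm T v u (single r) = true := by
  simp only [checkLevi, Bool.and_eq_true] at hL
  have h := allBelow_eq_true.1 hL.1.1.1 r hr
  simp only [Bool.and_eq_true, Bool.or_eq_true, Bool.not_eq_true', anyBelow_eq_true,
    d.fixedB_iff, beq_iff_eq] at h
  rcases h.2 with (h1 | h1) | ⟨v, -, ⟨h1, h2⟩, u, hu, ⟨h3, h4⟩, h5⟩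
  · exact absurd (d.fixedB_iff.2 hπ) (by simp [h1])
  · simp [hg] at h1
  · exact ⟨v, u, h1, h2, hu, h3, h4, h5⟩

end

/-- the Levi subgroup scales `X_0` -/
theorem lev0_zero {y : GL T.D.Idx F} (hy : y ∈ lev0 d.g.toGood F) : ∃ χ : Fˣ, ∀ t : F,
    y * xg d.g.toGood 0 t * y⁻¹ = xg d.g.toGood 0 ((χ : F) * t) := by
  have hg := d.g.toGood
  refine lev0_induction hg
    (p := fun y => ∃ χ : Fˣ, ∀ t : F, y * xg hg 0 t * y⁻¹ = xg hg 0 ((χ : F) * t))
    ⟨1, fun t => by simp⟩ (fun x y ⟨a, ha⟩ ⟨b, hb⟩ => ⟨a * b, fun t => ?_⟩)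
    (fun c => ⟨_, fun t => tor_xg hg c (n_pos d.g) t⟩) (fun r hr t => ⟨1, fun u => ?_⟩) hy
  · rw [show x * y * xg hg 0 t * (x * y)⁻¹ = x * (y * xg hg 0 t * y⁻¹) * x⁻¹ by group, hb, ha,
      Units.val_mul, mul_assoc]
  · rw [(commute_nil d.g.toGoodA ((top_row d.g hr.1).2.1 (inJ_grd d.g hr)).2 u t).symm.eq,
      mul_inv_cancel_right, Units.val_one, one_mul]

/-- what commutes with `x_R(1)` and `x_0(1)` lies in the Levi subgroup -/
theorem levi_of_commute {z : GL T.D.Idx F} (hz : z ∈ T.D.group F)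
    (hR : Commute z (xg d.g.toGood (top T) 1)) (h0 : Commute z (xg d.g.toGood 0 1)) :
    z ∈ lev0 d.g.toGood F := by
  have g := d.g
  have hg := d.g.toGood
  obtain ⟨v, hv, l, hl, rfl⟩ := parab_split d.g (commute_stab d.g hz one_ne_zero hR)
  obtain ⟨χ, hχ⟩ := d.lev0_zero hl
  have hv0 : v * xg hg 0 (χ : F) * v⁻¹ = xg hg 0 (1 : F) := by
    have h1 := hχ 1
    rw [mul_one] at h1
    rw [← h1, show v * (l * xg hg 0 1 * l⁻¹) * v⁻¹ = v * l * xg hg 0 1 * (v * l)⁻¹ by group, h0.eq,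
      mul_inv_cancel_right]
  obtain ⟨L, hL', eL⟩ := exists_word_long d.g (n_pos d.g) (lng_zero d.g)
  obtain ⟨ε, hε, hc⟩ := nWd_conj (F := F) hg hL' (top_lt d.g)
  set n := nWd hg F L
  have hε' : (ε : F) * ε = 1 := by rw [← Units.val_mul, hε, Units.val_one]
  have hn : n ∈ T.D.group F :=
    monomial_le_group hg ((mem_monomial_iff hg).2 ⟨L, hL', 1, by simp [n]⟩)
  have hc' : ∀ t : F, xg hg 0 t = n * xg hg (top T) ((ε : F) * t) * n⁻¹ := fun t => by
    rw [(hc _).1, eL, ← mul_assoc, hε', one_mul]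
  rw [hc', hc'] at hv0
  have hP : n⁻¹ * v * n ∈ T.D.parabolicSubgroup F (J0 T) := by
    refine stab_top d.g (mul_mem (mul_mem (inv_mem hn) (genS_le_group hg hv)) hn)
      (a := (ε : F) * χ) (b := (ε : F) * 1) (mul_ne_zero ε.ne_zero χ.ne_zero) ?_
    calc _ = n⁻¹ * (v * (n * xg hg (top T) ((ε : F) * χ) * n⁻¹) * v⁻¹) * n := by group
      _ = _ := by rw [hv0]; group
  have hopp : n⁻¹ * v * n ∈ genS hg F {r | r < T.n ∧ T.neg r ∈ T.outJ (J0 T)} := by
    have hle : genS hg F (T.outJ (J0 T)) ≤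
        (genS hg F {r | r < T.n ∧ T.neg r ∈ T.outJ (J0 T)}).comap
          (MulAut.conj n⁻¹).toMonoidHom := by
      refine genS_le hg fun r hr t => ?_
      have hlt := rw'_lt hg hL'.reverse hr.2.1
      obtain ⟨δ, hδ, hd⟩ := nWd_conj (F := F) hg hL' hlt
      have h1 := (hd ((δ : F) * t)).1
      rw [rw'_rev' hg hL' hr.2.1, ← mul_assoc, ← Units.val_mul, hδ, Units.val_one, one_mul] at h1
      simp only [Subgroup.mem_comap, MulEquiv.coe_toMonoidHom, MulAut.conj_apply, inv_inv, ← h1]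
      rw [show n⁻¹ * (n * xg hg (T.rw' L.reverse r) ((δ : F) * t) * n⁻¹) * n =
        xg hg (T.rw' L.reverse r) ((δ : F) * t) by group]
      refine xg_mem_genS hg (S := {r | r < T.n ∧ T.neg r ∈ T.outJ (J0 T)})
        (r := T.rw' L.reverse r) ⟨hlt, ?_⟩ _
      rw [← Jf_grd d.g]
      refine neg_mem_out d.g.toGoodK (grd_isLin d.g) (grd_dom d.g) hlt ?_
      have e : pr T 0 r = grd T (T.rw' L.reverse r) := by
        conv_lhs => rw [← eL, ← rw'_rev' hg hL' hr.2.1]
        exact pr_rw' hg hL' (top_lt d.g) hlt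
      rw [← e]
      have hneg : pr T 0 r = -grd T r := by
        rw [← neg_top d.g, grd, pr_eq, pr_eq, ← Finset.sum_neg_distrib]
        refine Finset.sum_congr rfl fun j hj => ?_
        rw [((hg.sign' (top_lt d.g)).1 j (Finset.mem_range.1 hj)).2.2.1]; ring
      rw [hneg]
      rcases (mem_out_iff d.g).1 hr with h | h
      · rw [(one_iff.1 h).2.2]; norm_num
      · subst h; rw [grd, pr_self hg hr.2.1]; norm_num
    simpa using hle hv
  have hv1 : v = 1 := by
    have := parab_inf_opp d.g.toGoodK (J0 T) hP hopp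
    calc v = n * (n⁻¹ * v * n) * n⁻¹ := by group
      _ = 1 := by rw [this]; group
  rw [hv1, one_mul]; exact hl

/-- the hypothesis of the centralizer lemma -/
def CommFix (d : TW T K W S F) (z : GL T.D.Idx F) : Prop :=
  z ∈ T.D.group F ∧ ∀ v < T.n, d.X.π v = v → Commute z (xg d.g.toGood v 1)

/-- Columns of an element commuting with the fixed root elements. -/
theorem block {z : GL T.D.Idx F} (hz : d.CommFix z) {v : ℕ} (hv : v < T.n) (hπ : d.X.π v = v)
    {b : ℕ} (hb : b < T.n) (a : T.D.Idx)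
    (ha : ((z : Matrix T.D.Idx T.D.Idx F) *ᵥ bas T F (T.l + b)) a ≠ 0) :
    (∀ r < T.n, T.code a = T.l + r → pr T v r = pr T v b) ∧
      (pr T v b ≠ 0 → ∃ r < T.n, T.code a = T.l + r) := by
  classical
  have hg := d.g.toGood
  obtain ⟨L, hL, -, hnM, eL⟩ := d.fixed_word hv hπ
  obtain ⟨ε, hε, hc⟩ := nWd_conj (F := F) hg hL (top_lt d.g)
  have hε' : (ε : F) * ε = 1 := by rw [← Units.val_mul, hε, Units.val_one]
  set n := nWd hg F L
  set z' := n⁻¹ * z * n
  have hcomm : ∀ r : ℕ, ∀ s < T.n, d.X.π s = s →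
      n * xg hg r (1 : F) * n⁻¹ = xg hg s (ε : F) → Commute z' (xg hg r 1) := by
    intro r s hs hsπ e
    have h1 : Commute z (xg hg s (ε : F)) := by
      rcases mul_self_eq_one_iff.1 hε' with h | h <;> rw [h]
      · exact hz.2 s hs hsπ
      · rw [← xg_inv]; exact (hz.2 s hs hsπ).inv_right
    have : xg hg r (1 : F) = n⁻¹ * xg hg s (ε : F) * n := by rw [← e]; group
    rw [this]
    show _ = _
    calc n⁻¹ * z * n * (n⁻¹ * xg hg s (ε : F) * n) = n⁻¹ * (z * xg hg s (ε : F)) * n := by group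
      _ = n⁻¹ * (xg hg s (ε : F) * z) * n := by rw [h1.eq]
      _ = _ := by simp only [z']; group
  have hz' : z' ∈ lev0 hg F := by
    refine d.levi_of_commute (mul_mem (mul_mem (inv_mem (d.M_group hnM)) hz.1) (d.M_group hnM))
      (hcomm _ v hv hπ (by rw [(hc 1).1, eL, mul_one]))
      (hcomm _ (T.neg v) (neg_lt hv) (by rw [d.X.π_neg v hv, hπ]) ?_)
    rw [← neg_top d.g, (hc 1).2, eL, mul_one]
  set c := T.rw' L.reverse b
  have hcn : c < T.n := rw'_lt hg hL.reverse hb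
  have hcb : T.rw' L c = b := rw'_rev' hg hL hb
  obtain ⟨δ, -, hδ⟩ := nWd_conj_col (F := F) hg hL hcn
  rw [hcb] at hδ
  set y := (z' : Matrix T.D.Idx T.D.Idx F) *ᵥ bas T F (T.l + c) with hy
  have hzb : (z : Matrix T.D.Idx T.D.Idx F) *ᵥ bas T F (T.l + b) =
      (δ : F)⁻¹ • ((n : Matrix T.D.Idx T.D.Idx F) *ᵥ y) := by
    rw [hy, mulVec_mulVec, ← Units.val_mul, show n * z' = z * n by simp only [z']; group,
      Units.val_mul, ← mulVec_mulVec, hδ, mulVec_smul, inv_smul_smul₀ δ.ne_zero]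
  -- the support of `y`
  obtain ⟨j, hj⟩ := exists_code hg (show T.l + c < T.l + T.n by omega)
  have hgc : gI T j = pr T v b := by
    rcases j with ⟨x, hx⟩ | ⟨x, hx⟩ <;> simp only [code] at hj
    · have := hg.rank_eq; omega
    · obtain rfl : x = c := by omega
      simp only [gI, Sum.elim_inr, grd]
      rw [← eL, ← hcb, pr_rw' hg hL (top_lt d.g) hcn]
  have hysupp : ∀ i, y i ≠ 0 → gI T i = pr T v b := by
    intro i hi
    by_contra hne
    refine hi ?_
    rw [hy, ← hj, ← apply_eq_col hg, lev0_block d.g hz' i j (hgc ▸ hne)]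
  rw [hzb, Pi.smul_apply, smul_eq_mul, mul_ne_zero_iff] at ha
  have hna := ha.2
  constructor
  · intro r hr hcode
    set r' := T.rw' L.reverse r
    have hr' : r' < T.n := rw'_lt hg hL.reverse hr
    have hrr : T.rw' L r' = r := rw'_rev' hg hL hr
    obtain ⟨u, hu⟩ := nWd_row (F := F) hg hL hr'
    have h1 := hu y
    rw [hrr, ← hcode, ev_code hg] at h1
    rw [h1, mul_ne_zero_iff] at hna
    obtain ⟨i, hi⟩ := exists_code hg (show T.l + r' < T.l + T.n by omega)
    rw [← hi, ev_code hg] at hna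
    have h2 := hysupp i hna.2
    rcases i with ⟨x, hx⟩ | ⟨x, hx⟩ <;> simp only [code] at hi
    · have := hg.rank_eq; omega
    · obtain rfl : x = r' := by omega
      simp only [gI, Sum.elim_inr, grd] at h2
      rw [← h2]
      conv_lhs => rw [← eL, ← hrr]
      exact pr_rw' hg hL (top_lt d.g) hr'
  · intro hk
    rw [eq_sum_bas hg y, mulVec_sum, Finset.sum_apply] at hna
    obtain ⟨i, -, hi⟩ := Finset.exists_ne_zero_of_sum_ne_zero hna
    rw [mulVec_smul, Pi.smul_apply, smul_eq_mul, mul_ne_zero_iff] at hi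
    have h2 := hysupp i hi.1
    rcases i with ⟨x, hx⟩ | ⟨x, hx⟩
    · simp only [gI, Sum.elim_inl] at h2
      exact absurd h2.symm hk
    · rw [hg.nroots_eq] at hx
      obtain ⟨u, -, hu⟩ := nWd_conj_col (F := F) hg hL hx
      have hi2 := hi.2
      rw [show T.code (Sum.inr ⟨x, _⟩) = T.l + x from rfl, hu, Pi.smul_apply, smul_eq_mul,
        mul_ne_zero_iff] at hi2
      exact ⟨_, rw'_lt hg hL hx, by by_contra h; exact hi2.2 (bas_ne h)⟩

section
variable (hL : checkLevi T d.Sy = true)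
include hL

/-- An element commuting with the fixed root elements lies in the Borel subgroup. -/
theorem comm_borel {z : GL T.D.Idx F} (hz : d.CommFix z) : z ∈ T.D.borelSubgroup F := by
  classical
  have hg := d.g.toGood
  obtain ⟨β, hβ, _, -, L, hLw, ⟨c, rfl⟩, u, hu, rfl⟩ := bruhat_exists d.g.toGoodA hz.1
  obtain ⟨u0, hu0, e, hd⟩ := (mem_borel_iff hg).1 (mul_mem hβ (torus_le_borel (F := F) hg c))
  set n := nWd hg F L
  set z := β * (tor T F c * n) * u with hzdef
  have hpos : ∀ i < T.l, T.N ≤ T.rw' L (T.smp i) := by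
    intro i hi
    have hs := hg.smp_lt hi
    have hk := d.wgt_pos hL (hg.smp_ge hi) hs
    set k := wgt T d.Sy (T.smp i)
    have h1 : Up T d.Sy k (((u⁻¹ : GL T.D.Idx F) : Matrix T.D.Idx T.D.Idx F) *ᵥ
        bas T F (T.l + T.smp i)) :=
      pos_up hg (fun r h1 h2 => d.wgt_pos hL h1 h2) hk (inv_mem (uMinus_le_pos hg L hu))
        (Up.bas hs)
    have h2 : Up T d.Sy k ((z : Matrix T.D.Idx T.D.Idx F) *ᵥ
        (((u⁻¹ : GL T.D.Idx F) : Matrix T.D.Idx T.D.Idx F) *ᵥ bas T F (T.l + T.smp i))) := by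
      refine Up.mulVec hg (fun r hr hkr a ha => ?_) h1
      obtain ⟨v, hv, hvπ, hne⟩ : ∃ v < T.n, d.X.π v = v ∧ pr T v r ≠ 0 := by
        by_contra! hall
        have : wgt T d.Sy r = 0 := by
          simp only [wgt, sumBelow_eq_sum]
          refine Finset.sum_eq_zero fun v hv => ?_
          by_cases hf : (fixedB d.Sy v && Nat.ble T.N v) = true
          · rw [hf, cond_true, hall v (Finset.mem_range.1 hv)
              (d.fixedB_iff.1 (Bool.and_eq_true_iff.1 hf).1), mul_zero]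
          · rw [Bool.not_eq_true] at hf; rw [hf, cond_false]
        omega
      obtain ⟨q, hq, hcode⟩ := (d.block hz hv hvπ hr a ha).2 hne
      refine ⟨q, hq, hcode, hkr.trans (le_of_eq ?_)⟩
      simp only [wgt, sumBelow_eq_sum]
      refine Finset.sum_congr rfl fun w hw => ?_
      by_cases hf : (fixedB d.Sy w && Nat.ble T.N w) = true
      · rw [hf, cond_true, cond_true, (d.block hz (Finset.mem_range.1 hw)
          (d.fixedB_iff.1 (Bool.and_eq_true_iff.1 hf).1) hr a ha).1 q hq hcode]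
      · rw [Bool.not_eq_true] at hf; rw [hf, cond_false, cond_false]
    have h3 := pos_up hg (fun r h1 h2 => d.wgt_pos hL h1 h2) hk (inv_mem hu0) h2
    rw [mulVec_mulVec, mulVec_mulVec, ← Units.val_mul, ← Units.val_mul,
      show u0⁻¹ * z * u⁻¹ = tor T F e * n by
        rw [hzdef, show β * (tor T F c * n) * u = β * tor T F c * n * u by group, hd]; group] at h3
    obtain ⟨v, -, hcol⟩ := mono_conj_col (F := F) hg hLw e hs
    rw [hcol] at h3
    obtain ⟨j, hj⟩ := exists_code hg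
      (show T.l + T.rw' L (T.smp i) < T.l + T.n by have := rw'_lt hg hLw hs; omega)
    obtain ⟨q, hq, hcode, hkq⟩ := h3 j (by simp [bas, hj, v.ne_zero])
    obtain rfl : q = T.rw' L (T.smp i) := by omega
    by_contra hlt
    have hw := d.wgt_pos hL ((N_le_neg_iff hq).2 (not_le.1 hlt)) (neg_lt hq)
    rw [wgt_neg hg hq] at hw
    omega
  have hcard : (T.invSet L).card = 0 := by
    by_contra hne
    obtain ⟨i, hi, hneg, -, -⟩ := invSet_peel hg hLw
      (show (T.invSet L).card = (T.invSet L).card - 1 + 1 by omega)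
    exact absurd (hpos i hi) (not_le.2 hneg)
  obtain ⟨⟨x, hx⟩, -⟩ := nWd_torus_of_pos (F := F) hg _ le_rfl hLw (invSet_empty hg hcard)
  have : z = β * (tor T F c * tor T F x) * u := by simp only [z, n, hx]
  rw [this]
  exact mul_mem (mul_mem hβ (mul_mem (torus_le_borel hg _) (torus_le_borel hg _)))
    (genS_pos_le_borel hg (fun r hr => hr) (uMinus_le_pos hg L hu))

/-- An element commuting with the fixed root elements lies in the torus. -/
theorem comm_torus {z : GL T.D.Idx F} (hz : d.CommFix z) : ∃ c, z = tor T F c := by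
  classical
  have hg := d.g.toGood
  obtain ⟨L, hLw, hcomm, hneg⟩ := d.X.exists_longest_comm
  set n := nWd hg F L
  have hn : n ∈ T.D.group F :=
    monomial_le_group hg ((mem_monomial_iff hg).2 ⟨L, hLw, 1, by simp [n]⟩)
  have hcr := d.X.neg_comm_rev hLw hcomm
  have hz' : d.CommFix (n * z * n⁻¹) := by
    refine ⟨mul_mem (mul_mem hn hz.1) (inv_mem hn), fun v hv hπ => ?_⟩
    have hw := rw'_lt hg hLw.reverse hv
    obtain ⟨ε, hε, hc⟩ := nWd_conj (F := F) hg hLw hw
    have hε' : (ε : F) * ε = 1 := by rw [← Units.val_mul, hε, Units.val_one]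
    have hwπ : d.X.π (T.rw' L.reverse v) = T.rw' L.reverse v := by rw [← hcr v hv, hπ]
    have h1 := (hc (ε : F)).1
    rw [rw'_rev' hg hLw hv, hε'] at h1
    rw [← h1]
    refine (Commute.conj_iff n).2 ?_
    rcases mul_self_eq_one_iff.1 hε' with h | h <;> rw [h]
    · exact hz.2 _ hw hwπ
    · rw [← xg_inv]; exact (hz.2 _ hw hwπ).inv_right
  obtain ⟨u, hu, c, e⟩ := (mem_borel_iff hg).1 (d.comm_borel hL hz)
  refine ⟨c, ?_⟩
  have hB := d.comm_borel hL hz'
  obtain ⟨f, hf⟩ := torus_pass hg (nWd_mem_wSub (F := F) hg hLw) c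
  have h1 : n * u * n⁻¹ ∈ T.D.borelSubgroup F := by
    have e' : n * u * n⁻¹ = n * z * n⁻¹ * (n * tor T F c * n⁻¹)⁻¹ := by rw [e]; group
    rw [e', hf, mul_inv_cancel_right]
    exact mul_mem hB (inv_mem (torus_le_borel hg f))
  have h2 : n * u * n⁻¹ ∈ genS hg F (Set.Iio T.N) := by
    have hle : genS hg F (Set.Ico T.N T.n) ≤
        (genS hg F (Set.Iio T.N)).comap (MulAut.conj n).toMonoidHom := by
      refine genS_le hg fun r hr t => ?_
      obtain ⟨ε, -, hc⟩ := nWd_conj (F := F) hg hLw hr.2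
      simp only [Subgroup.mem_comap, MulEquiv.coe_toMonoidHom, MulAut.conj_apply, n, (hc t).1]
      exact xg_mem_genS hg (S := Set.Iio T.N) (hneg r hr.1 hr.2) _
    simpa using hle hu
  have h3 : u = 1 := by
    have := borel_inf_neg hg h1 h2
    exact conj_eq_one_iff.1 this
  rw [e, h3, one_mul]

/-- An element centralising the fixed root elements and the orbit elements of grade one is `1`. -/
theorem comm_one {z : GL T.D.Idx F} (hz : d.CommFix z)
    (horb : ∀ O ∈ d.orbs, ∀ r ∈ O, ∃ a : ℕ → F, a r ≠ 0 ∧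
      d.cd (z * sProd d.g.toGood O a * z⁻¹) r = a r) : z = 1 := by
  obtain ⟨c, rfl⟩ := d.comm_torus hL hz
  have hg := d.g.toGood
  have hone : ∀ r, one T r = true → wt T F c r = 1 := by
    intro r hr
    obtain ⟨O, hO, hrO⟩ := List.mem_flatten.1 ((d.row (one_iff.1 hr).2.1).2.2.2 hr).2.2.2
    obtain ⟨a, ha, e⟩ := horb O hO r hrO
    have hnd : O.Nodup := (List.nodup_flatten.1 d.orbs_nodup).1 O hO
    rw [sProd_conj hg c (fun s hs => (one_iff.1 ((d.orb_data hO).2 s hs)).2.1),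
      d.cd_sProd _ (d.orb_data hO).2 hnd, if_pos hrO] at e
    exact Units.ext (mul_right_cancel₀ ha (e.trans (one_mul _).symm))
  rw [← map_one (tor T F), tor_eq_iff_wt hg]
  intro i hi
  rw [div_one]
  simp only [checkLevi, Bool.and_eq_true] at hL
  have h := allBelow_eq_true.1 hL.2 i hi
  simp only [Bool.or_eq_true, Bool.and_eq_true, anyBelow_eq_true, beq_iff_eq] at h
  rcases h with h | ⟨-, a, -, ha, b, -, hb, htr⟩
  · exact hone _ h
  obtain ⟨q1, q2, -, -, q5⟩ := trm_spec htr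
  obtain ⟨C, eC, -⟩ := single_spec q5
  obtain ⟨-, -, -, hlin, -⟩ := cTerms_mem hg q1 q2
    (show (b, C, 1, 1) ∈ T.cTerms (T.smp i) a by rw [eC]; exact List.mem_singleton_self _)
  have e : wt T F c b = wt T F c (T.smp i) * wt T F c a := by
    rw [wt, wt, wt, ← Finset.prod_mul_distrib]
    refine Finset.prod_congr rfl fun j hj => ?_
    rw [hlin j (Finset.mem_range.1 hj), ← _root_.zpow_add]
    congr 1; push_cast; ring
  rwa [hone b hb, hone a ha, mul_one, eq_comm] at e

omit hL in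
/-- roots of grade zero lie in the Levi subgroup -/
theorem grd_zero_inJ {r : ℕ} (hr : r < T.n) (h : grd T r = 0) : r ∈ T.inJ (J0 T) := by
  have key : ∀ s, T.N ≤ s → s < T.n → grd T s = 0 → s ∈ T.inJ (J0 T) := fun s h1 h2 h3 => by
    rw [← Jf_grd d.g]
    exact zero_inJ d.g.toGoodK (grd_isLin d.g) (grd_dom d.g) s h1 h2 (by simp [h3])
  by_cases hN : T.N ≤ r
  · exact key r hN hr h
  · have := inJ_neg d.g.toGood (key _ ((N_le_neg_iff hr).2 (not_le.1 hN)) (neg_lt hr)
      (by rw [grd, pr_neg_right d.g.toGood hr]; simpa [grd] using h))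
    rwa [Tab.neg_neg hr] at this

omit hL in
theorem σ_lev0 {l : GL T.D.Idx F} (hl : l ∈ lev0 d.g.toGood F) :
    l ∈ T.D.group F ∧ d.X.σ l ∈ lev0 d.g.toGood F := by
  refine lev0_induction d.g.toGood
    (p := fun l => l ∈ T.D.group F ∧ d.X.σ l ∈ lev0 d.g.toGood F)
    ⟨one_mem _, by rw [d.X.σ_one]; exact one_mem _⟩
    (fun x y hx hy => ⟨mul_mem hx.1 hy.1, by rw [d.X.σ_mul _ hx.1 _ hy.1]; exact mul_mem hx.2 hy.2⟩)
    (fun c => ?_) (fun r hr t => ⟨xg_mem_group _ _ _, ?_⟩) hl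
  · have hd : tor T F c ∈ T.D.diagonalSubgroup F := by
      rw [diagonalSubgroup_eq d.g.toGood]; exact ⟨c, rfl⟩
    exact ⟨tor_mem_group d.g.toGood c, diag_le_lev0 d.g (d.X.σ_torus hd)⟩
  · rw [d.σ_xg hr.1]
    exact Subgroup.mem_sup_right (xg_mem_genS _
      (d.grd_zero_inJ (d.X.π_lt r hr.1) (by rw [(d.row hr.1).1, inJ_grd d.g hr])) _)

omit hL in
/-- rational elements of an orbit -/
theorem orb_elt (hS : checkSgn d.Sy d.orbs = true) {O : List ℕ} (hO : O ∈ d.orbs) :
    ∃ a : ℕ → F, (∀ r ∈ O, a r ≠ 0) ∧ sProd d.g.toGood O a ∈ d.M := by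
  simp only [checkSgn, List.all_eq_true, anyBelow_eq_true, beq_iff_eq] at hS
  obtain ⟨k, -, hk⟩ := hS O hO
  have hsq : ∀ r, (sgA O k r : F) = 1 ∨ (sgA O k r : F) = -1 := fun r => by
    unfold sgA; cases Nat.testBit k (O.idxOf r) <;> simp
  refine ⟨fun r => (sgA O k r : F), fun r _ => ?_, ?_, ?_⟩
  · rcases hsq r with e | e <;> simp [e]
  · refine d.X.pos_fixed_mem (genS_mono d.g.toGood outJ_pos (d.E_Q hO _)) ?_
    rw [d.σ_eq, fixed_orbit d.g.toGoodA d.symOK d.ψ (d.orb_data hO).1]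
    intro r hr
    simp only [map_intCast, hk r hr, Int.cast_mul]
  · refine Subgroup.list_prod_mem _ fun y hy => ?_
    obtain ⟨r, -, rfl⟩ := List.mem_map.1 hy
    exact fixElem_le_ratS d.g.toGood d.ψ (xg_mem_fixElem _ _ (map_intCast d.ψ _))

/-- `H` meets the parabolic subgroup in rational elements when it does so for the radical. -/
theorem parab (hS : checkSgn d.Sy d.orbs = true) {H : Subgroup (GL T.D.Idx F)} (hM : d.M ≤ H)
    (hle : H ≤ d.X.G1) (hrad : ∀ v ∈ H, v ∈ d.Q → v ∈ ratS T d.ψ) {h : GL T.D.Idx F} (hh : h ∈ H)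
    (hP : h ∈ T.D.parabolicSubgroup F (J0 T)) : h ∈ ratS T d.ψ := by
  have g := d.g
  have hg := d.g.toGood
  obtain ⟨v, hv, l, hl, rfl⟩ := parab_split g hP
  have hvG := genS_le_group hg hv
  obtain ⟨hlG, hσl⟩ := d.σ_lev0 hl
  -- both factors are fixed by `σ`
  have hσv : d.X.σ v = v := by
    have e : d.X.σ v * d.X.σ l = v * l := by
      rw [← d.X.σ_mul _ hvG _ hlG]; exact (d.X.G1_le _ (hle hh)).2
    have e2 : v⁻¹ * d.X.σ v = l * (d.X.σ l)⁻¹ := by
      rw [inv_mul_eq_iff_eq_mul, ← mul_assoc, ← e, mul_inv_cancel_right]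
    have h1 := radical_inf_levi g.toGoodK (J0 T) (mul_mem (inv_mem hv) (d.σ_Q hv))
      (e2 ▸ mul_mem hl (inv_mem hσl))
    exact (inv_mul_eq_one.1 h1).symm
  have hlG1 : l ∈ d.X.G1 := by
    have := mul_mem (inv_mem (d.X.pos_fixed_mem (genS_mono hg outJ_pos hv) hσv)) (hle hh)
    rwa [inv_mul_cancel_left] at this
  set sv := entryHom T d.ψ v
  set sl := entryHom T d.ψ l
  set l' := l⁻¹ * sl
  set v3 := l⁻¹ * (v⁻¹ * sv) * l
  have hnorm := fun (y : GL T.D.Idx F) (hy : y ∈ T.D.parabolicSubgroup F (J0 T)) =>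
    Subgroup.mem_normalizer_iff.1 (parabolic_normalizes g.toGoodK (J0 T) hy)
  have hlP : l ∈ T.D.parabolicSubgroup F (J0 T) := by
    rw [← levi_sup g.toGoodK]; exact Subgroup.mem_sup_right hl
  have hl' : l' ∈ lev0 hg F := mul_mem (inv_mem hl) (entryHom_lev0 g d.ψ hl)
  have hv3 : v3 ∈ d.Q := by
    have := (hnorm _ (inv_mem hlP) _).1 (mul_mem (inv_mem hv) (entryHom_genS hg d.ψ hv))
    rw [inv_inv] at this
    exact this
  have hfix : ∀ y ∈ d.M, y ∈ d.Q → (v3 * l') * y * (v3 * l')⁻¹ = y := by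
    intro y hy hyQ
    have h2 := mem_ratS.1 (hrad _ (mul_mem (mul_mem hh (hM hy)) (inv_mem hh)) ((hnorm _ hP _).1 hyQ))
    rw [map_mul, map_mul, map_inv, mem_ratS.1 (d.M_rat hy), map_mul] at h2
    calc (v3 * l') * y * (v3 * l')⁻¹ = (v * l)⁻¹ * ((sv * sl) * y * (sv * sl)⁻¹) * (v * l) := by
          simp only [v3, l']; group
      _ = _ := by rw [h2]; group
  have hone : ∀ {k : ℕ}, one T k = true → d.X.π k = k → Commute l' (xg hg k 1) := by
    intro k hk hπ
    have hko := (mem_out_iff g).2 (Or.inl hk)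
    obtain ⟨a, ha⟩ := out_commutator g (inv_mem hv3) hko
    have e := hfix _ (d.fixed_mem hko.2.1 hπ (map_one _)) (xg_mem_genS hg hko 1)
    have e2 : l' * xg hg k 1 * l'⁻¹ = xg hg k 1 * xg hg (top T) a := by
      rw [← ha]
      calc _ = v3⁻¹ * ((v3 * l') * xg hg k 1 * (v3 * l')⁻¹) * v3⁻¹⁻¹ := by group
        _ = _ := by rw [e]
    rw [lev0_top g hl' hk e2, xg_zero, mul_one, mul_inv_eq_iff_eq_mul] at e2
    exact e2
  have hpm : ∀ {k : ℕ}, Commute l' (xg hg k (1 : F)) → ∀ C : ℤ, unit1 C = true →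
      Commute l' (xg hg k (C : F)) := by
    intro k hc C hC
    rcases mul_self_eq_one_iff.1 (unit1_cast (F := F) hC) with e | e <;> rw [e]
    · exact hc
    · rw [← xg_inv]; exact hc.inv_right
  have hterm : ∀ {a b r : ℕ}, trm T a b (single r) = true → Commute l' (xg hg a (1 : F)) →
      Commute l' (xg hg b (1 : F)) → Commute l' (xg hg r (1 : F)) := by
    intro a b r htr ha hb
    obtain ⟨q1, q2, q3, q4, q5⟩ := trm_spec htr
    obtain ⟨C, eC, hC⟩ := single_spec q5
    have e := conj_terms g.toGoodA q1 q2 q3 q4 (1 : F) 1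
    rw [eC] at e
    simp only [List.map_cons, List.map_nil, List.prod_cons, List.prod_nil, mul_one, pow_one,
      Nat.cast_one] at e
    have hc : Commute l' (xg hg r (C : F)) := by
      rw [show xg hg r (C : F) = (xg hg b 1)⁻¹ * (xg hg a 1 * xg hg b 1 * (xg hg a 1)⁻¹) by
        rw [e]; group]
      exact hb.inv_right.mul_right ((ha.mul_right hb).mul_right ha.inv_right)
    rcases mul_self_eq_one_iff.1 (unit1_cast (F := F) hC) with e | e <;> rw [e] at hc
    · exact hc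
    · rw [← xg_inv] at hc; simpa using hc.inv_right
  have hR : Commute l' (xg hg (top T) (1 : F)) := by
    have hRo : top T ∈ T.outJ (J0 T) := (mem_out_iff g).2 (Or.inr rfl)
    have e := hfix _ (d.xg_top_mem (map_one _)) (xg_mem_genS hg hRo 1)
    show _ = _
    calc l' * xg hg (top T) 1 = v3⁻¹ * ((v3 * l') * xg hg (top T) 1 * (v3 * l')⁻¹) * v3 * l' := by
          group
      _ = _ := by
          rw [e, mul_assoc v3⁻¹, (pos_commute_top g (genS_mono hg outJ_pos hv3) 1).eq,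
            inv_mul_cancel_left]
  have h0 : Commute l' (xg hg 0 (1 : F)) := by
    have h := hL
    simp only [checkLevi, Bool.and_eq_true, anyBelow_eq_true, d.fixedB_iff] at h
    obtain ⟨k, -, ⟨hk, hkπ⟩, u, -, htr, htr'⟩ := h.1.1.2
    obtain ⟨χ, hχ⟩ := d.lev0_zero hl'
    obtain ⟨q1, q2, q3, q4, q5⟩ := trm_spec htr
    obtain ⟨C, eC, hC⟩ := single_spec q5
    obtain ⟨p1, p2, p3, p4, p5⟩ := trm_spec htr'
    obtain ⟨D, eD, hD⟩ := single_spec p5
    have c1 : ∀ t : F, xg hg 0 t * xg hg k 1 * (xg hg 0 t)⁻¹ =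
        xg hg k 1 * xg hg u ((C : F) * t) := fun t => by
      rw [conj_terms g.toGoodA q1 q2 q3 q4, eC]; simp
    have c2 : ∀ t : F, xg hg (top T) 1 * xg hg u t * (xg hg (top T) 1)⁻¹ =
        xg hg u t * xg hg k ((D : F) * t) := fun t => by
      rw [conj_terms g.toGoodA p1 p2 p3 p4, eD]; simp
    let φ := MulAut.conj l'
    have hφ : ∀ {y : GL T.D.Idx F}, Commute l' y → φ y = y := fun h => by
      show l' * _ * l'⁻¹ = _
      rw [h.eq, mul_inv_cancel_right]
    have hφ0 : φ (xg hg 0 1) = xg hg 0 (χ : F) := (hχ 1).trans (by rw [mul_one])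
    have hu : φ (xg hg u (C : F)) = xg hg u ((C : F) * χ) := by
      have := congrArg φ (c1 1)
      rw [map_mul, map_mul, map_mul, map_inv, hφ0, hφ (hone hk hkπ), mul_one, c1] at this
      exact (mul_left_cancel this).symm
    have hkk := hpm (hone hk hkπ) (D * C) (by
      rw [unit1, nat_beq] at hC hD ⊢; rw [Int.natAbs_mul, hC, hD])
    push_cast at hkk
    have h3 := congrArg φ (c2 (C : F))
    rw [map_mul, map_mul, map_mul, map_inv, hu, hφ hR, hφ hkk, c2] at h3
    have h4 := xg_injective hg (one_iff.1 hk).2.1 (mul_left_cancel h3)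
    have h5 : (χ : F) = 1 := by
      have hne := mul_ne_zero (unit1_ne (F := F) hD) (unit1_ne (F := F) hC)
      exact mul_left_cancel₀ hne (by linear_combination h4)
    rw [h5] at hφ0
    show _ = _
    exact mul_inv_eq_iff_eq_mul.1 hφ0
  have hneg1 : ∀ r < T.n, d.X.π r = r → grd T r = -1 → Commute l' (xg hg r (1 : F)) := by
    intro r hr hπ hgr
    obtain ⟨k, hk, hkπ, htr⟩ := d.neg_one_row hL hr hπ hgr
    exact hterm htr h0 (hone hk hkπ)
  have hcomm : d.CommFix l' := by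
    refine ⟨(d.σ_lev0 hl').1, fun r hr hπ => ?_⟩
    have hbd : grd T r = 2 ∧ r = top T ∨ grd T r = -2 ∧ r = 0 ∨
        one T r = true ∨ grd T r = -1 ∨ grd T r = 0 := by
      by_cases hN : T.N ≤ r
      · obtain ⟨a, b, c, -⟩ := (top_row g hr).1 hN
        rcases eq_or_ne (grd T r) 2 with e | e
        · exact Or.inl ⟨e, c.1 e⟩
        rcases eq_or_ne (grd T r) 1 with e' | e'
        · exact Or.inr (Or.inr (Or.inl (one_iff.2 ⟨hN, hr, e'⟩)))
        · exact Or.inr (Or.inr (Or.inr (Or.inr (by omega))))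
      · obtain ⟨a, b, c, -⟩ := (top_row g (neg_lt hr)).1 ((N_le_neg_iff hr).2 (not_le.1 hN))
        have e0 : grd T (T.neg r) = -grd T r := pr_neg_right hg hr
        rcases eq_or_ne (grd T r) (-2) with e | e
        · refine Or.inr (Or.inl ⟨e, ?_⟩)
          have := congrArg T.neg (c.1 (by omega))
          rwa [Tab.neg_neg hr, neg_top g] at this
        · rcases eq_or_ne (grd T r) (-1) with e' | e'
          · exact Or.inr (Or.inr (Or.inr (Or.inl e')))
          · exact Or.inr (Or.inr (Or.inr (Or.inr (by omega))))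
    rcases hbd with ⟨-, rfl⟩ | ⟨-, rfl⟩ | h1 | h1 | h1
    · exact hR
    · exact h0
    · exact hone h1 hπ
    · exact hneg1 r hr hπ h1
    · obtain ⟨k, u, hk, hkπ, hun, huπ, hgu, htr⟩ := d.zero_row hL hr hπ h1
      exact hterm htr (hone hk hkπ) (hneg1 u hun huπ hgu)
  have hl1 : l' = 1 := by
    refine d.comm_one hL hcomm fun O hO r hr => ?_
    obtain ⟨a, ha, hy⟩ := d.orb_elt hS hO
    have hyQ := d.E_Q hO a
    refine ⟨a, ha r hr, ?_⟩
    have e := hfix _ hy hyQ
    rw [show l' * sProd hg O a * l'⁻¹ = v3⁻¹ * ((v3 * l') * sProd hg O a * (v3 * l')⁻¹) * v3 by group,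
      e, d.cd_mul (mul_mem (inv_mem hv3) hyQ) hv3, d.cd_mul (inv_mem hv3) hyQ, d.cd_inv hv3,
      d.cd_sProd _ (d.orb_data hO).2 ((List.nodup_flatten.1 d.orbs_nodup).1 O hO), if_pos hr]
    ring
  have hlr : l ∈ ratS T d.ψ := (inv_mul_eq_one.1 hl1).symm
  refine mul_mem (hrad v ?_ hv) hlr
  have := mul_mem hh (inv_mem (hM (Subgroup.mem_inf.2 ⟨hlG1, hlr⟩)))
  rwa [mul_inv_cancel_right] at this

end

end TW

end Cfsg.Agent.TwMax
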