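import Cfsg.Agent.Lib.TwMax.Lang

/-!
# Moving the coordinates of the radical

Tools for showing that the radical of a group above the rational points is rational.
-/

set_option autoImplicit false

namespace Cfsg.Agent.TwMax

open Cfsg.Lie Cfsg.Agent.Chev Cfsg.Agent.Chev.Tab Cfsg.Agent.ChevAut Cfsg.Agent.SFMax

/-- the root reached from `j` by the root `b` -/
def mvT (T : Tab) (b j : ℕ) : ℕ :=
  match T.cTerms b j with
  | [(a, _, 1, 1)] => a
  | _ => j

/-- the coefficient -/
def mvC (T : Tab) (b j : ℕ) : ℤ :=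
  match T.cTerms b j with
  | [(_, C, 1, 1)] => C
  | _ => 0

/-- the root `b` sends every root of grade one to one root of grade one at most -/
def checkMove (T : Tab) (b : ℕ) : Bool :=
  Nat.blt b T.n && grd T b == 0 && allBelow (fun j => !(one T j) ||
    (trm T b j (fun L => L == if mvT T b j = j then [] else [(mvT T b j, mvC T b j, 1, 1)]) &&
      (Nat.beq (mvT T b j) j || one T (mvT T b j)))) T.n

/-- the roots of grade one sent to `k` -/
def srcs (T : Tab) (b k : ℕ) : List ℕ :=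
  (List.range T.n).filter fun j => one T j && !(Nat.beq (mvT T b j) j) && Nat.beq (mvT T b j) k

variable {T : Tab} {K : List (List ℕ)} {W : List (ℕ × ℕ × ℕ)} {S : List ℕ} {F : Type*} [Field F]

/-- conjugation by a monomial element permutes root elements up to signs -/
theorem conj_sProd (g : T.Good) {L : List ℕ} (hL : T.Wd L) {O : List ℕ} (hO : ∀ r ∈ O, r < T.n)
    (a : ℕ → F) :
    ∃ b : ℕ → F, nWd g F L * sProd g O a * (nWd g F L)⁻¹ = sProd g (O.map (T.rw' L)) b ∧
      ∀ r ∈ O, ∃ ε : F, ε * ε = 1 ∧ b (T.rw' L r) = ε * a r := by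
  classical
  have h : ∀ r, ∃ ε : F, ε * ε = 1 ∧ (r ∈ O → ∀ t : F,
      nWd g F L * xg g r t * (nWd g F L)⁻¹ = xg g (T.rw' L r) (ε * t)) := by
    intro r
    by_cases hr : r ∈ O
    · obtain ⟨ε, hε, hc⟩ := nWd_conj (F := F) g hL (hO r hr)
      exact ⟨ε, by rw [← Units.val_mul, hε, Units.val_one], fun _ t => (hc t).1⟩
    · exact ⟨1, one_mul 1, fun h => absurd h hr⟩
  choose ε h1 h2 using h
  refine ⟨fun s => ε (T.rw' L.reverse s) * a (T.rw' L.reverse s), ?_, fun r hr => ⟨ε r, h1 r, ?_⟩⟩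
  · clear h1
    induction O with
    | nil => simp [sProd]
    | cons r O ih =>
      have hr := hO r List.mem_cons_self
      rw [List.map_cons, sProd_cons, sProd_cons,
        ← ih (fun s hs => hO s (List.mem_cons_of_mem _ hs))
          (fun s hs => h2 s (List.mem_cons_of_mem _ hs)),
        rw'_rev g hL hr, ← h2 r List.mem_cons_self (a r)]
      group
  · simp only [rw'_rev g hL (hO r hr)]

namespace TW

variable (d : TW T K W S F)
include d

/-- Conjugation by a root element of grade zero. -/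
theorem move {b : ℕ} (hb : checkMove T b = true) (u : F) {v : GL T.D.Idx F} (hv : v ∈ d.Q) :
    xg d.g.toGood b u * v * (xg d.g.toGood b u)⁻¹ ∈ d.Q ∧
      ∀ k, one T k = true → d.cd (xg d.g.toGood b u * v * (xg d.g.toGood b u)⁻¹) k = d.cd v k +
        ((srcs T b k).map fun j => (mvC T b j : F) * u * d.cd v j).sum := by
  classical
  simp only [checkMove, Bool.and_eq_true, nat_blt, beq_iff_eq] at hb
  obtain ⟨⟨hbn, hbg⟩, hall⟩ := hb
  obtain ⟨h1, h2⟩ := d.cd_move hbn hbg (tgt := mvT T b) (cf := mvC T b) (fun j hj => by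
    have h := allBelow_eq_true.1 hall j (one_iff.1 hj).2.1
    simp only [hj, Bool.not_true, Bool.false_or, Bool.and_eq_true, Bool.or_eq_true, nat_beq] at h
    exact ⟨h.1, fun hne => h.2.resolve_left hne⟩) u hv
  refine ⟨h1, fun k hk => ?_⟩
  rw [h2 k hk, srcs, ← List.sum_toFinset _ (List.nodup_range.filter _)]
  congr 1
  refine Finset.sum_congr ?_ fun _ _ => rfl
  ext j
  simp [srcs, List.mem_filter, nat_beq_false, ← Bool.not_eq_true, nat_beq, and_assoc]

/-- coordinates at fixed roots are rational -/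
theorem fixed_cd {v : GL T.D.Idx F} (hv : v ∈ d.Q) (hσ : d.X.σ v = v) {k : ℕ}
    (hk : one T k = true) (hπ : d.X.π k = k) : d.ψ (d.cd v k) = d.cd v k := by
  have h := d.cd_σ hv k hk
  rw [hσ, hπ, z, ((d.row (one_iff.1 hk).2.1).2.2.1 hπ).1, Int.cast_one, one_mul] at h
  exact h.symm

/-- a fixed element with rational coordinates is rational -/
theorem rat_of_cd {v : GL T.D.Idx F} (hv : v ∈ d.Q) (hσ : d.X.σ v = v)
    (h : ∀ O ∈ d.orbs, ∀ r ∈ O, d.ψ (d.cd v r) = d.cd v r) : v ∈ ratS T d.ψ := by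
  obtain ⟨c, hc, e⟩ := d.decomp hv hσ
  rw [e]
  refine mul_mem (d.M_rat (d.xg_top_mem hc)) (Subgroup.list_prod_mem _ fun y hy => ?_)
  obtain ⟨O, hO, rfl⟩ := List.mem_map.1 hy
  exact d.E_rat (h O hO)

/-- If every orbit element in `H` of the orbit `O` is rational, then a fixed element of the radical
moving only `O` is rational on `O`. -/
theorem orbit_rat {H : Subgroup (GL T.D.Idx F)} (hM : d.M ≤ H) {O : List ℕ} (hO : O ∈ d.orbs)
    (hS : ∀ a : ℕ → F, sProd d.g.toGood O a ∈ H → sProd d.g.toGood O a ∈ ratS T d.ψ)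
    {v : GL T.D.Idx F} (hvH : v ∈ H) (hv : v ∈ d.Q) (hσ : d.X.σ v = v)
    (h : ∀ O' ∈ d.orbs, O' ≠ O → ∀ r ∈ O', d.ψ (d.cd v r) = d.cd v r) {r : ℕ} (hr : r ∈ O) :
    d.ψ (d.cd v r) = d.cd v r := by
  have hrat := hS _ (d.only_orbit hM hvH hv hσ hO h)
  have h2 := d.cd_rat (d.E_Q hO (d.cd v)) hrat r
  rwa [d.cd_sProd _ (d.orb_data hO).2 ((List.nodup_flatten.1 d.orbs_nodup).1 O hO), if_pos hr] at h2

end TW

end Cfsg.Agent.TwMax
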