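import Cfsg.Agent.Lib.SubfieldMax.Parabolic
import Cfsg.Agent.Lib.Lie.TwGraph

/-!
# Subgroups of a twisted group containing its rational points

`G¹` is the group fixed by (graph automorphism) ∘ (field automorphism `ψ`), and `M` consists of its
elements with entries fixed by `ψ`.  Here: the fixed long roots, the coordinates on the radical of
the parabolic subgroup of the highest root, and its decomposition into orbits.
-/

set_option autoImplicit false

namespace Cfsg.Agent.TwMax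

open Cfsg.Lie Cfsg.Agent.Chev Cfsg.Agent.Chev.Tab Cfsg.Agent.ChevAut Cfsg.Agent.SFMax

/-- the table facts for a symmetry, the orbit words and the list of orbits of grade one -/
def checkBase (T : Tab) (S : List ℕ) (Sy : Sym) (w : ℕ → List ℕ) (nb : ℕ)
    (orbs : List (List ℕ)) : Bool :=
  allBelow (fun r =>
    (grd T (Sy.π.getD r 0) == grd T r) && lng S r &&
    (!(Nat.beq (Sy.π.getD r 0) r) || (Sy.ζ.getD r 1 == 1 &&
      (Nat.beq r (top T) || anyBelow (fun b =>
        Nat.blt r (T.rw' (w b) r) && Nat.beq (T.rw' (w b) (T.rw' (w b) r)) r) nb))) &&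
    (!(one T r) || (!(isBad T 2 r) && !(isBad T 3 r) &&
      Nat.beq (Sy.π'.getD (Sy.π.getD r 0) 0) r && memB r orbs.flatten))) T.n &&
  Nat.beq (Sy.π.getD (top T) 0) (top T) &&
  orbs.all (fun O => T.checkOrbit Sy O && O.all (fun r => one T r)) &&
  decide orbs.flatten.Nodup

/-- the setting: a Steinberg endomorphism given by a symmetry and `ψ` -/
structure TW (T : Tab) (K : List (List ℕ)) (W : List (ℕ × ℕ × ℕ)) (S : List ℕ) (F : Type*)
    [Field F] where
  g : SD T K W S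
  X : Twist g.toGoodK F
  Sy : Sym
  symOK : T.checkSym Sy = true
  ψ : F →+* F
  orbs : List (List ℕ)
  σ_eq : X.σ = ⇑(graphσ g.toGood symOK ψ)
  π_eq : ∀ r, X.π r = Sy.π.getD r 0
  n_eq : ∀ b < X.nb, X.n b = nWd g.toGood F (X.w b)
  base : checkBase T S Sy X.w X.nb orbs = true

variable {T : Tab} {K : List (List ℕ)} {W : List (ℕ × ℕ × ℕ)} {S : List ℕ} {F : Type*} [Field F]

namespace TW

/-- the rational points of the twisted group -/
noncomputable def M (d : TW T K W S F) : Subgroup (GL T.D.Idx F) := d.X.G1 ⊓ ratS T d.ψ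

/-- the sign of the symmetry -/
def z (d : TW T K W S F) (r : ℕ) : F := (d.Sy.ζ.getD r 1 : F)

variable (d : TW T K W S F)
include d

theorem row {r : ℕ} (hr : r < T.n) :
    grd T (d.X.π r) = grd T r ∧ lng S r = true ∧
    (d.X.π r = r → d.Sy.ζ.getD r 1 = 1 ∧ (r = top T ∨ ∃ b < d.X.nb,
      r < T.rw' (d.X.w b) r ∧ T.rw' (d.X.w b) (T.rw' (d.X.w b) r) = r)) ∧
    (one T r = true → isBad T 2 r = false ∧ isBad T 3 r = false ∧
      d.Sy.π'.getD (d.Sy.π.getD r 0) 0 = r ∧ r ∈ d.orbs.flatten) := by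
  have h := d.base
  simp only [checkBase, Bool.and_eq_true] at h
  have h' := allBelow_eq_true.1 h.1.1.1 r hr
  simp only [Bool.and_eq_true, Bool.or_eq_true, anyBelow_eq_true, Bool.not_eq_true', nat_beq,
    nat_blt, beq_iff_eq, memB_iff, nat_beq_false] at h'
  obtain ⟨⟨⟨h1, h2⟩, h3⟩, h4⟩ := h'
  rw [d.π_eq]
  refine ⟨h1, h2, fun e => h3.resolve_left (fun hne => hne e), fun ho => ?_⟩
  obtain ⟨⟨⟨a, b⟩, c⟩, e⟩ := h4.resolve_left (by simp [ho])
  exact ⟨a, b, c, e⟩

theorem π_top : d.X.π (top T) = top T := by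
  have h := d.base
  simp only [checkBase, Bool.and_eq_true, nat_beq] at h
  rw [d.π_eq]; exact h.1.1.2

theorem π_one {r : ℕ} (h : one T r = true) : one T (d.X.π r) = true := by
  obtain ⟨hN, hn, h1⟩ := one_iff.1 h
  exact one_iff.2 ⟨(d.X.π_pos r hn).2 hN, d.X.π_lt r hn, by rw [(d.row hn).1, h1]⟩

theorem orb_data {O : List ℕ} (hO : O ∈ d.orbs) :
    T.checkOrbit d.Sy O = true ∧ ∀ r ∈ O, one T r = true := by
  have h := d.base
  simp only [checkBase, Bool.and_eq_true, List.all_eq_true] at h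
  exact h.1.2 O hO

theorem orbs_nodup : d.orbs.flatten.Nodup := by
  have h := d.base
  simp only [checkBase, Bool.and_eq_true, decide_eq_true_eq] at h
  exact h.2

theorem σ_xg {r : ℕ} (hr : r < T.n) (t : F) :
    d.X.σ (xg d.g.toGood r t) = xg d.g.toGood (d.X.π r) (d.z r * d.ψ t) := by
  rw [d.σ_eq, d.π_eq, graphσ_xg _ _ _ hr, z]

theorem M_G1 {x : GL T.D.Idx F} (h : x ∈ d.M) : x ∈ d.X.G1 := h.1

theorem M_rat {x : GL T.D.Idx F} (h : x ∈ d.M) : x ∈ ratS T d.ψ := h.2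

theorem M_group {x : GL T.D.Idx F} (h : x ∈ d.M) : x ∈ T.D.group F := (d.X.G1_le x h.1).1

theorem nWd_mem : ∀ {Ls : List ℕ}, (∀ b ∈ Ls, b < d.X.nb) →
    nWd d.g.toGood F (Ls.flatMap d.X.w) ∈ d.M ∧ T.Wd (Ls.flatMap d.X.w) ∧
      d.X.Comm (Ls.flatMap d.X.w)
  | [], _ => ⟨by rw [List.flatMap_nil, nWd_nil]; exact one_mem _, by simp [Wd], fun s hs => rfl⟩
  | b :: Ls, h => by
    obtain ⟨h1, h2, h3⟩ := nWd_mem (fun c hc => h c (List.mem_cons_of_mem _ hc))
    have hb := h b List.mem_cons_self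
    refine ⟨?_, ?_, ?_⟩
    · rw [List.flatMap_cons, nWd_append]
      refine mul_mem ?_ h1
      refine ⟨d.n_eq b hb ▸ d.X.n_mem b hb, fixElem_le_ratS d.g.toGood d.ψ (nWd_mem_fixElem _ _ _)⟩
    · rw [List.flatMap_cons]; exact Wd.append_iff.2 ⟨d.X.w_wd hb, h2⟩
    · rw [List.flatMap_cons]; exact d.X.comm_append (d.X.w_comm hb) h2 h3

/-- A fixed root is a rational Weyl image of the highest root. -/
theorem fixed_word {r : ℕ} (hr : r < T.n) (hπ : d.X.π r = r) :
    ∃ L, T.Wd L ∧ d.X.Comm L ∧ nWd d.g.toGood F L ∈ d.M ∧ T.rw' L (top T) = r := by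
  suffices h : ∃ Ls : List ℕ, (∀ b ∈ Ls, b < d.X.nb) ∧ T.rw' (Ls.flatMap d.X.w) (top T) = r by
    obtain ⟨Ls, h1, h2⟩ := h
    obtain ⟨a, b, c⟩ := d.nWd_mem h1
    exact ⟨_, b, c, a, h2⟩
  induction hm : T.n - r using Nat.strong_induction_on generalizing r with
  | _ m ih =>
    subst hm
    rcases ((d.row hr).2.2.1 hπ).2 with e | ⟨b, hb, h1, h2⟩
    · exact ⟨[], by simp, by simp [e]⟩
    have hlt := rw'_lt d.g.toGood (d.X.w_wd hb) hr
    have hπ' : d.X.π (T.rw' (d.X.w b) r) = T.rw' (d.X.w b) r := by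
      rw [← d.X.w_comm hb r hr, hπ]
    obtain ⟨Ls, h3, h4⟩ := ih _ (by omega) hlt hπ' rfl
    refine ⟨b :: Ls, fun c hc => ?_, ?_⟩
    · rcases List.mem_cons.1 hc with rfl | hc
      exacts [hb, h3 c hc]
    · rw [List.flatMap_cons, rw'_append, h4, h2]

theorem G1_fixed {r : ℕ} (hr : r < T.n) (hπ : d.X.π r = r) {t : F}
    (h : xg d.g.toGood r t ∈ d.X.G1) : d.ψ t = t := by
  have e := (d.X.G1_le _ h).2
  rw [d.σ_xg hr, hπ, z, ((d.row hr).2.2.1 hπ).1, Int.cast_one, one_mul] at e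
  exact xg_injective d.g.toGood hr e

theorem xg_top_mem {t : F} (ht : d.ψ t = t) : xg d.g.toGood (top T) t ∈ d.M := by
  have hn := top_lt d.g
  refine ⟨d.X.pos_fixed_mem (xg_mem_genS _ (S := Set.Ico T.N T.n) ⟨top_ge d.g, hn⟩ t) ?_,
    (xg_ratS_iff d.g.toGood hn).2 ht⟩
  rw [d.σ_xg hn, d.π_top, z, ((d.row hn).2.2.1 d.π_top).1, ht, Int.cast_one, one_mul]

theorem fixed_mem {r : ℕ} (hr : r < T.n) (hπ : d.X.π r = r) {t : F} (ht : d.ψ t = t) :
    xg d.g.toGood r t ∈ d.M := by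
  obtain ⟨L, hL, -, hn, e⟩ := d.fixed_word hr hπ
  obtain ⟨ε, hε, hc⟩ := nWd_conj (F := F) d.g.toGood hL (top_lt d.g)
  have hε' : (ε : F) * ε = 1 := by rw [← Units.val_mul, hε, Units.val_one]
  have h1 := (hc ((ε : F) * t)).1
  rw [e, ← mul_assoc, hε', one_mul] at h1
  rw [← h1]
  refine mul_mem (mul_mem hn (d.xg_top_mem ?_)) (inv_mem hn)
  rcases mul_self_eq_one_iff.1 hε' with h | h <;> simp [h, ht]

/-! ### Coordinates on the radical -/

/-- the radical -/
noncomputable def Q (d : TW T K W S F) : Subgroup (GL T.D.Idx F) :=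
  genS d.g.toGood F (T.outJ (J0 T))

theorem pair {k : ℕ} (hk : one T k = true) :
    ∃ m C, one T m = true ∧ T.cTerms k m = [(top T, C, 1, 1)] ∧ trm T k m (fun _ => true) = true ∧
      (C : F) ≠ 0 ∧ ∀ j, one T j = true → j ≠ k → trm T j m List.isEmpty = true ∨ j = m := by
  obtain ⟨m, C, hm, htr, heq, hC, h0⟩ := partner d.g (F := F) hk
  obtain ⟨b2, b3, -⟩ := (d.row (one_iff.1 hk).2.1).2.2.2 hk
  refine ⟨m, C, hm, heq, htr, fun e => ?_, fun j hj hne => ?_⟩
  · rcases hC e with ⟨-, h⟩ | ⟨-, h⟩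
    · rw [b2] at h; exact Bool.noConfusion h
    · rw [b3] at h; exact Bool.noConfusion h
  · by_cases h : j = m
    · exact Or.inr h
    · exact Or.inl (h0 j hj hne h).1

open Classical in
/-- the coordinate at the root `k` of grade one -/
noncomputable def cd (d : TW T K W S F) (v : GL T.D.Idx F) (k : ℕ) : F :=
  if h : one T k = true then
    Classical.epsilon fun a : F => v * xg d.g.toGood (d.pair h).choose 1 * v⁻¹ =
      xg d.g.toGood (d.pair h).choose 1 *
        xg d.g.toGood (top T) (((d.pair h).choose_spec.choose : F) * a)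
  else 0

theorem cd_unique {v : GL T.D.Idx F} {k : ℕ} (hk : one T k = true) {a : F}
    (e : v * xg d.g.toGood (d.pair hk).choose 1 * v⁻¹ = xg d.g.toGood (d.pair hk).choose 1 *
      xg d.g.toGood (top T) (((d.pair hk).choose_spec.choose : F) * a)) : d.cd v k = a := by
  have h := Classical.epsilon_spec (p := fun a : F => v * xg d.g.toGood (d.pair hk).choose 1 * v⁻¹ =
      xg d.g.toGood (d.pair hk).choose 1 *
        xg d.g.toGood (top T) (((d.pair hk).choose_spec.choose : F) * a)) ⟨a, e⟩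
  rw [cd, dif_pos hk]
  have h2 := xg_injective d.g.toGood (top_lt d.g) (mul_left_cancel (h.symm.trans e))
  exact mul_left_cancel₀ (d.pair hk).choose_spec.choose_spec.2.2.2.1 h2

theorem cd_spec {v : GL T.D.Idx F} (hv : v ∈ d.Q) {k : ℕ} (hk : one T k = true) :
    v * xg d.g.toGood (d.pair hk).choose 1 * v⁻¹ = xg d.g.toGood (d.pair hk).choose 1 *
      xg d.g.toGood (top T) (((d.pair hk).choose_spec.choose : F) * d.cd v k) := by
  obtain ⟨hm, -, -, hC, -⟩ := (d.pair hk).choose_spec.choose_spec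
  obtain ⟨a, ha⟩ := out_commutator d.g hv ((mem_out_iff d.g).2 (Or.inl hm))
  have ha' : v * xg d.g.toGood (d.pair hk).choose 1 * v⁻¹ = xg d.g.toGood (d.pair hk).choose 1 *
      xg d.g.toGood (top T) (((d.pair hk).choose_spec.choose : F) *
        (a / ((d.pair hk).choose_spec.choose : F))) := by
    rw [mul_div_cancel₀ _ hC]; exact ha
  rw [d.cd_unique hk ha']
  exact ha'

theorem cd_not_one {k : ℕ} (hk : ¬ one T k = true) (v : GL T.D.Idx F) : d.cd v k = 0 := by
  rw [cd, dif_neg hk]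

theorem cd_mul {v w : GL T.D.Idx F} (hv : v ∈ d.Q) (hw : w ∈ d.Q) (k : ℕ) :
    d.cd (v * w) k = d.cd v k + d.cd w k := by
  by_cases hk : one T k = true
  swap
  · rw [d.cd_not_one hk, d.cd_not_one hk, d.cd_not_one hk, add_zero]
  refine d.cd_unique hk ?_
  have h1 := d.cd_spec hv hk
  have h2 := d.cd_spec hw hk
  have hc : ∀ a : F, Commute v (xg d.g.toGood (top T) a) := fun a =>
    (pos_commute_top d.g (genS_mono d.g.toGood outJ_pos hv) a).symm
  calc v * w * xg d.g.toGood (d.pair hk).choose 1 * (v * w)⁻¹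
      = v * (w * xg d.g.toGood (d.pair hk).choose 1 * w⁻¹) * v⁻¹ := by group
    _ = (v * xg d.g.toGood (d.pair hk).choose 1 * v⁻¹) *
        (v * xg d.g.toGood (top T) (((d.pair hk).choose_spec.choose : F) * d.cd w k) * v⁻¹) := by
      rw [h2]; group
    _ = _ := by rw [h1, (hc _).eq, mul_inv_cancel_right, mul_assoc, xg_add, mul_add]

theorem cd_one (k : ℕ) : d.cd 1 k = 0 := by
  have h := d.cd_mul (one_mem _) (one_mem _) k
  rw [mul_one] at h
  exact left_eq_add.1 h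

theorem cd_inv {v : GL T.D.Idx F} (hv : v ∈ d.Q) (k : ℕ) : d.cd v⁻¹ k = -d.cd v k := by
  have h := d.cd_mul (inv_mem hv) hv k
  rw [inv_mul_cancel, d.cd_one] at h
  exact eq_neg_of_add_eq_zero_left h.symm

theorem cd_xg {j : ℕ} (hj : j ∈ T.outJ (J0 T)) (c : F) (k : ℕ) :
    d.cd (xg d.g.toGood j c) k = if one T k = true ∧ j = k then c else 0 := by
  have hg := d.g.toGood
  by_cases hk : one T k = true
  swap
  · rw [d.cd_not_one hk, if_neg fun h => hk h.1]
  obtain ⟨hm, heq, htr, -, h0⟩ := (d.pair hk).choose_spec.choose_spec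
  by_cases hjk : j = k
  · subst hjk
    rw [if_pos ⟨hk, rfl⟩]
    refine d.cd_unique hk ?_
    obtain ⟨q1, q2, q3, q4, -⟩ := trm_spec htr
    rw [conj_terms d.g.toGoodA q1 q2 q3 q4]
    conv_lhs => rw [heq]
    simp
  rw [if_neg fun h => hjk h.2]
  refine d.cd_unique hk ?_
  rw [mul_zero, xg_zero, mul_one, mul_inv_eq_iff_eq_mul]
  rcases (mem_out_iff d.g).1 hj with hj1 | rfl
  · rcases h0 j hj1 hjk with h | h
    · exact (commute_nil d.g.toGoodA h c 1).eq
    · rw [h]; exact (commute_self _ _ c 1).eq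
  · exact (commute_top d.g (one_iff.1 hm).2.1 (Or.inl (one_iff.1 hm).1) c 1).eq

theorem Q_induction {p : GL T.D.Idx F → Prop} (h1 : p 1)
    (hx : ∀ j ∈ T.outJ (J0 T), ∀ (c : F), ∀ y ∈ d.Q, p y → p (xg d.g.toGood j c * y))
    {v : GL T.D.Idx F} (hv : v ∈ d.Q) : p v :=
  (genS_induction d.g.toGood (p := fun y => y ∈ d.Q ∧ p y) ⟨one_mem _, h1⟩
    (fun j hj c y hy => ⟨mul_mem (xg_mem_genS _ hj _) hy.1, hx j hj c y hy.1 hy.2⟩) hv).2

theorem π_out {j : ℕ} (hj : j ∈ T.outJ (J0 T)) : d.X.π j ∈ T.outJ (J0 T) := by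
  rcases (mem_out_iff d.g).1 hj with h | rfl
  · exact (mem_out_iff d.g).2 (Or.inl (d.π_one h))
  · rw [d.π_top]; exact hj

theorem σ_Q {v : GL T.D.Idx F} (hv : v ∈ d.Q) : d.X.σ v ∈ d.Q := by
  refine genS_mono d.g.toGood ?_ (d.X.σ_genS (fun r hr => hr.2.1) hv)
  rintro _ ⟨r, hr, rfl⟩
  exact d.π_out hr

theorem cd_σ {v : GL T.D.Idx F} (hv : v ∈ d.Q) :
    ∀ k, one T k = true → d.cd (d.X.σ v) (d.X.π k) = d.z k * d.ψ (d.cd v k) := by
  refine d.Q_induction (p := fun v => ∀ k, one T k = true →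
    d.cd (d.X.σ v) (d.X.π k) = d.z k * d.ψ (d.cd v k)) ?_ ?_ hv
  · intro k _; rw [d.X.σ_one, d.cd_one, d.cd_one, map_zero, mul_zero]
  · intro j hj c y hy ih k hk
    have hjn : j < T.n := hj.2.1
    have hkn := (one_iff.1 hk).2.1
    rw [d.X.σ_mul _ (xg_mem_group _ _ _) _ (genS_le_group d.g.toGood hy), d.σ_xg hjn,
      d.cd_mul (xg_mem_genS _ (d.π_out hj) _) (d.σ_Q hy), d.cd_mul (xg_mem_genS _ hj _) hy,
      ih k hk, d.cd_xg (d.π_out hj), d.cd_xg hj, map_add, mul_add]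
    congr 1
    by_cases hjk : j = k
    · subst hjk; rw [if_pos ⟨d.π_one hk, rfl⟩, if_pos ⟨hk, rfl⟩]
    · rw [if_neg fun h => hjk (d.X.π_inj j hjn k hkn h.2), if_neg fun h => hjk h.2, map_zero,
        mul_zero]

theorem cd_ψ {v : GL T.D.Idx F} (hv : v ∈ d.Q) :
    ∀ k, d.cd (entryHom T d.ψ v) k = d.ψ (d.cd v k) := by
  refine d.Q_induction (p := fun v => ∀ k, d.cd (entryHom T d.ψ v) k = d.ψ (d.cd v k)) ?_ ?_ hv
  · intro k; rw [map_one, d.cd_one, map_zero]
  · intro j hj c y hy ih k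
    rw [map_mul, entryHom_xg,
      d.cd_mul (xg_mem_genS _ hj _) (entryHom_genS d.g.toGood d.ψ hy),
      d.cd_mul (xg_mem_genS _ hj _) hy, ih, d.cd_xg hj, d.cd_xg hj, map_add]
    congr 1
    split_ifs <;> simp

/-- Conjugation by a root element sending each root of grade one to one root of grade one at most. -/
theorem cd_move {b : ℕ} (hb : b < T.n) (hgb : grd T b = 0) {tgt : ℕ → ℕ} {cf : ℕ → ℤ}
    (hchk : ∀ j, one T j = true → trm T b j (fun L => L == if tgt j = j then [] else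
      [(tgt j, cf j, 1, 1)]) = true ∧ (tgt j ≠ j → one T (tgt j) = true))
    (u : F) {v : GL T.D.Idx F} (hv : v ∈ d.Q) :
    xg d.g.toGood b u * v * (xg d.g.toGood b u)⁻¹ ∈ d.Q ∧
      ∀ k, one T k = true → d.cd (xg d.g.toGood b u * v * (xg d.g.toGood b u)⁻¹) k = d.cd v k +
        ∑ j ∈ (Finset.range T.n).filter (fun j => one T j = true ∧ tgt j ≠ j ∧ tgt j = k),
          (cf j : F) * u * d.cd v j := by
  have hg := d.g.toGood
  refine d.Q_induction (p := fun v => xg hg b u * v * (xg hg b u)⁻¹ ∈ d.Q ∧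
    ∀ k, one T k = true → d.cd (xg hg b u * v * (xg hg b u)⁻¹) k = d.cd v k +
        ∑ j ∈ (Finset.range T.n).filter (fun j => one T j = true ∧ tgt j ≠ j ∧ tgt j = k),
          (cf j : F) * u * d.cd v j) ?_ ?_ hv
  · rw [mul_one, mul_inv_cancel]
    exact ⟨one_mem _, fun k _ => by simp [d.cd_one]⟩
  intro j hj c y hy ⟨ihQ, ih⟩
  set x := xg hg b u
  have e : x * (xg hg j c * y) * x⁻¹ = (x * xg hg j c * x⁻¹) * (x * y * x⁻¹) := by group
  rw [e]
  rcases (mem_out_iff d.g).1 hj with hj1 | rfl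
  swap
  · have hcm : x * xg hg (top T) c * x⁻¹ = xg hg (top T) c := by
      rw [(commute_top d.g hb (Or.inr hgb) c u).symm.eq, mul_inv_cancel_right]
    rw [hcm]
    refine ⟨mul_mem (xg_mem_genS _ hj _) ihQ, fun k hk => ?_⟩
    have hne : ∀ i, one T i = true → d.cd (xg hg (top T) c) i = 0 := fun i hi => by
      rw [d.cd_xg hj, if_neg fun h => ?_]
      have := (one_iff.1 hi).2.2
      rw [← h.2, grd, pr_self hg (top_lt d.g)] at this
      norm_num at this
    rw [d.cd_mul (xg_mem_genS _ hj _) ihQ, hne k hk, zero_add, ih k hk,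
      d.cd_mul (xg_mem_genS _ hj _) hy, hne k hk, zero_add]
    refine congrArg _ (Finset.sum_congr rfl fun i hi => ?_)
    rw [d.cd_mul (xg_mem_genS _ hj _) hy, hne i (Finset.mem_filter.1 hi).2.1, zero_add]
  obtain ⟨htr, hto⟩ := hchk j hj1
  obtain ⟨q1, q2, q3, q4, q5⟩ := trm_spec htr
  rw [beq_iff_eq] at q5
  have ec := conj_terms d.g.toGoodA q1 q2 q3 q4 u c
  rw [q5] at ec
  have hQj : x * xg hg j c * x⁻¹ ∈ d.Q ∧ ∀ k, one T k = true →
      d.cd (x * xg hg j c * x⁻¹) k = d.cd (xg hg j c) k +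
        ∑ i ∈ (Finset.range T.n).filter (fun i => one T i = true ∧ tgt i ≠ i ∧ tgt i = k),
          (cf i : F) * u * d.cd (xg hg j c) i := by
    have hsum : ∀ k, ∑ i ∈ (Finset.range T.n).filter
        (fun i => one T i = true ∧ tgt i ≠ i ∧ tgt i = k), (cf i : F) * u * d.cd (xg hg j c) i =
        if tgt j ≠ j ∧ tgt j = k then (cf j : F) * u * c else 0 := by
      intro k
      rw [Finset.sum_filter, Finset.sum_eq_single j]
      · simp [d.cd_xg hj, hj1]
      · intro i _ hne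
        simp [d.cd_xg hj, Ne.symm hne]
      · exact fun h => absurd (Finset.mem_range.2 (one_iff.1 hj1).2.1) h
    by_cases ht : tgt j = j
    · rw [if_pos ht] at ec
      simp only [List.map_nil, List.prod_nil, mul_one] at ec
      rw [ec]
      exact ⟨xg_mem_genS _ hj _, fun k _ => by rw [hsum, if_neg fun h => h.1 ht, add_zero]⟩
    · rw [if_neg ht] at ec
      simp only [List.map_cons, List.map_nil, List.prod_cons, List.prod_nil, mul_one, pow_one] at ec
      rw [ec]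
      have hto' := (mem_out_iff d.g).2 (Or.inl (hto ht))
      refine ⟨mul_mem (xg_mem_genS _ hj _) (xg_mem_genS _ hto' _), fun k hk => ?_⟩
      rw [d.cd_mul (xg_mem_genS _ hj _) (xg_mem_genS _ hto' _), hsum, d.cd_xg hto']
      by_cases hk' : tgt j = k
      · rw [if_pos ⟨hk, hk'⟩, if_pos ⟨ht, hk'⟩]
      · rw [if_neg fun h => hk' h.2, if_neg fun h => hk' h.2]
  refine ⟨mul_mem hQj.1 ihQ, fun k hk => ?_⟩
  rw [d.cd_mul hQj.1 ihQ, hQj.2 k hk, ih k hk, d.cd_mul (xg_mem_genS _ hj _) hy]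
  simp only [d.cd_mul (xg_mem_genS _ hj _) hy, mul_add, Finset.sum_add_distrib]
  ring

/-! ### Orbits -/

/-- the element of an orbit with the coordinates of `v` -/
noncomputable def E (d : TW T K W S F) (v : GL T.D.Idx F) (O : List ℕ) : GL T.D.Idx F :=
  sProd d.g.toGood O (d.cd v)

theorem E_Q {O : List ℕ} (hO : O ∈ d.orbs) (a : ℕ → F) : sProd d.g.toGood O a ∈ d.Q := by
  refine Subgroup.list_prod_mem _ fun y hy => ?_
  obtain ⟨r, hr, rfl⟩ := List.mem_map.1 hy
  exact xg_mem_genS _ ((mem_out_iff d.g).2 (Or.inl ((d.orb_data hO).2 r hr))) _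

theorem E_G1 {v : GL T.D.Idx F} (hv : v ∈ d.Q) (hσ : d.X.σ v = v) {O : List ℕ} (hO : O ∈ d.orbs) :
    d.E v O ∈ d.X.G1 := by
  obtain ⟨hchk, hone⟩ := d.orb_data hO
  refine d.X.pos_fixed_mem (genS_mono d.g.toGood outJ_pos (d.E_Q hO _)) ?_
  rw [d.σ_eq, E, fixed_orbit d.g.toGoodA d.symOK d.ψ hchk]
  intro r hr
  have h := d.cd_σ hv r (hone r hr)
  rwa [hσ, d.π_eq] at h

theorem E_rat {v : GL T.D.Idx F} {O : List ℕ} (h : ∀ r ∈ O, d.ψ (d.cd v r) = d.cd v r) :
    d.E v O ∈ ratS T d.ψ := by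
  refine Subgroup.list_prod_mem _ fun y hy => ?_
  obtain ⟨r, hr, rfl⟩ := List.mem_map.1 hy
  exact fixElem_le_ratS d.g.toGood d.ψ (xg_mem_fixElem _ _ (h r hr))

theorem cd_sProd (a : ℕ → F) : ∀ {O : List ℕ}, (∀ r ∈ O, one T r = true) → O.Nodup → ∀ k,
    d.cd (sProd d.g.toGood O a) k = if k ∈ O then a k else 0
  | [], _, _, k => by rw [sProd_nil, d.cd_one]; simp
  | r :: O, h, hnd, k => by
    obtain ⟨hr, hnd'⟩ := List.nodup_cons.1 hnd
    have h1 := h r List.mem_cons_self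
    have hQ : sProd d.g.toGood O a ∈ d.Q := by
      refine Subgroup.list_prod_mem _ fun y hy => ?_
      obtain ⟨s, hs, rfl⟩ := List.mem_map.1 hy
      exact xg_mem_genS _ ((mem_out_iff d.g).2 (Or.inl (h s (List.mem_cons_of_mem _ hs)))) _
    rw [sProd_cons, d.cd_mul (xg_mem_genS _ ((mem_out_iff d.g).2 (Or.inl h1)) _) hQ,
      d.cd_xg ((mem_out_iff d.g).2 (Or.inl h1)),
      cd_sProd a (fun s hs => h s (List.mem_cons_of_mem _ hs)) hnd' k]
    by_cases hk : r = k
    · subst hk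
      rw [if_pos ⟨h1, rfl⟩, if_neg hr, if_pos List.mem_cons_self, add_zero]
    · rw [if_neg fun h => hk h.2, zero_add]
      simp only [List.mem_cons, Ne.symm hk, false_or]

theorem cd_prodE (v : GL T.D.Idx F) : ∀ {L : List (List ℕ)}, (∀ O ∈ L, O ∈ d.orbs) →
    L.flatten.Nodup → ∀ k, (L.map (d.E v)).prod ∈ d.Q ∧
      d.cd (L.map (d.E v)).prod k = if k ∈ L.flatten then d.cd v k else 0
  | [], _, _, k => by simp [d.cd_one, one_mem]
  | O :: L, h, hnd, k => by
    rw [List.flatten_cons, List.nodup_append'] at hnd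
    obtain ⟨h1, h2⟩ := cd_prodE v (fun O' hO' => h O' (List.mem_cons_of_mem _ hO')) hnd.2.1 k
    have hO := h O List.mem_cons_self
    rw [List.map_cons, List.prod_cons]
    refine ⟨mul_mem (d.E_Q hO _) h1, ?_⟩
    rw [E, d.cd_mul (d.E_Q hO _) h1, h2, d.cd_sProd _ (d.orb_data hO).2 hnd.1, List.flatten_cons]
    by_cases hk : k ∈ O
    · rw [if_pos hk, if_neg fun h' => hnd.2.2 hk h', if_pos (List.mem_append_left _ hk), add_zero]
    · rw [if_neg hk, zero_add]
      simp only [List.mem_append, hk, false_or]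

/-- A fixed element of the radical is the product of its orbit elements and a fixed `x_R`. -/
theorem decomp {v : GL T.D.Idx F} (hv : v ∈ d.Q) (hσ : d.X.σ v = v) :
    ∃ c, d.ψ c = c ∧ v = xg d.g.toGood (top T) c * (d.orbs.map (d.E v)).prod := by
  have hg := d.g.toGood
  set P := (d.orbs.map (d.E v)).prod
  have hP : P ∈ d.Q := (d.cd_prodE v (fun O h => h) d.orbs_nodup 0).1
  have hw : v * P⁻¹ ∈ d.Q := mul_mem hv (inv_mem hP)
  have hw0 : ∀ k, one T k = true → d.cd (v * P⁻¹) k = 0 := by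
    intro k hk
    rw [d.cd_mul hv (inv_mem hP), d.cd_inv hP,
      (d.cd_prodE v (fun O h => h) d.orbs_nodup k).2,
      if_pos ((d.row (one_iff.1 hk).2.1).2.2.2 hk).2.2.2, add_neg_cancel]
  obtain ⟨t, et, ht⟩ := exists_supp d.g hw
  have hcd : ∀ (L : List ℕ), (∀ r ∈ L, T.N ≤ r ∧ r < T.n) → L.Nodup → ∀ k, one T k = true →
      (L.map fun r => xg hg r (t r)).prod ∈ d.Q ∧
        d.cd (L.map fun r => xg hg r (t r)).prod k = if k ∈ L then t k else 0 := by
    intro L
    induction L with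
    | nil => intro _ _ k _; simp [d.cd_one, one_mem]
    | cons r L ih =>
      intro hL hnd k hk
      obtain ⟨hr, hnd'⟩ := List.nodup_cons.1 hnd
      obtain ⟨i1, i2⟩ := ih (fun s hs => hL s (List.mem_cons_of_mem _ hs)) hnd' k hk
      rw [List.map_cons, List.prod_cons]
      by_cases h0 : t r = 0
      · rw [h0, xg_zero, one_mul]
        refine ⟨i1, ?_⟩
        rw [i2]
        by_cases hkr : k = r
        · subst hkr; simp [hr, h0]
        · simp [List.mem_cons, hkr]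
      have hro := ht r (hL r List.mem_cons_self).1 (hL r List.mem_cons_self).2 h0
      refine ⟨mul_mem (xg_mem_genS _ hro _) i1, ?_⟩
      rw [d.cd_mul (xg_mem_genS _ hro _) i1, i2, d.cd_xg hro]
      by_cases hkr : r = k
      · subst hkr; simp [hr, hk]
      · simp [List.mem_cons, hkr, Ne.symm hkr]
  have ht1 : ∀ k, one T k = true → t k = 0 := by
    intro k hk
    obtain ⟨hkN, hkn, -⟩ := one_iff.1 hk
    have h := (hcd (List.range' T.N (T.n - T.N)) (fun r hr => by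
      rw [List.mem_range'_1] at hr; omega) List.nodup_range' k hk).2
    rw [if_pos (List.mem_range'_1.2 ⟨hkN, by omega⟩)] at h
    rw [← h, show (List.map (fun r => xg hg r (t r)) (List.range' T.N (T.n - T.N))).prod =
      ordProd hg T.N t from rfl, ← et]
    exact hw0 k hk
  have hwtop : ∃ c, v * P⁻¹ = xg hg (top T) c := by
    have hmem : ordProd hg T.N t ∈ genS hg F {top T} := by
      refine Subgroup.list_prod_mem _ fun y hy => ?_
      obtain ⟨r, hr, rfl⟩ := List.mem_map.1 hy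
      rw [List.mem_range'_1] at hr
      by_cases h0 : t r = 0
      · rw [h0, xg_zero]; exact one_mem _
      rcases (mem_out_iff d.g).1 (ht r hr.1 (by omega) h0) with h1 | h1
      · exact absurd (ht1 r h1) h0
      · rw [h1]; exact xg_mem_genS hg (Set.mem_singleton (top T)) _
    rw [et]
    have hstep : ∀ r ∈ ({top T} : Set ℕ), ∀ (c : F) (y : GL T.D.Idx F),
        (∃ c, y = xg hg (top T) c) → ∃ c', xg hg r c * y = xg hg (top T) c' := by
      rintro r hr c y ⟨c', rfl⟩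
      obtain rfl : r = top T := Set.mem_singleton_iff.1 hr
      exact ⟨c + c', xg_add hg _ c c'⟩
    exact genS_induction hg (p := fun y => ∃ c, y = xg hg (top T) c)
      ⟨(0 : F), (xg_zero hg (top T)).symm⟩ hstep hmem
  obtain ⟨c, hc⟩ := hwtop
  refine ⟨c, d.G1_fixed (top_lt d.g) d.π_top ?_, by rw [← hc, inv_mul_cancel_right]⟩
  rw [← hc]
  have hvG : v ∈ d.X.G1 := d.X.pos_fixed_mem (genS_mono hg outJ_pos hv) hσ
  refine mul_mem hvG (inv_mem (Subgroup.list_prod_mem _ fun y hy => ?_))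
  obtain ⟨O, hO, rfl⟩ := List.mem_map.1 hy
  exact d.E_G1 hv hσ hO

theorem cd_rat {v : GL T.D.Idx F} (hv : v ∈ d.Q) (h : v ∈ ratS T d.ψ) (k : ℕ) :
    d.ψ (d.cd v k) = d.cd v k := by
  rw [← d.cd_ψ hv, mem_ratS.1 h]

/-- If only one orbit is moved, its element lies in every group above `M` containing `v`. -/
theorem only_orbit {H : Subgroup (GL T.D.Idx F)} (hM : d.M ≤ H) {v : GL T.D.Idx F} (hvH : v ∈ H)
    (hv : v ∈ d.Q) (hσ : d.X.σ v = v) {O : List ℕ} (hO : O ∈ d.orbs)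
    (h : ∀ O' ∈ d.orbs, O' ≠ O → ∀ r ∈ O', d.ψ (d.cd v r) = d.cd v r) : d.E v O ∈ H := by
  obtain ⟨c, hc, e⟩ := d.decomp hv hσ
  obtain ⟨L₁, L₂, eL⟩ := List.mem_iff_append.1 hO
  have hnd := d.orbs_nodup
  have hM' : ∀ L : List (List ℕ), (∀ O' ∈ L, O' ∈ d.orbs ∧ (O' = [] ∨ O' ≠ O)) →
      (L.map (d.E v)).prod ∈ H := by
    intro L hL
    refine Subgroup.list_prod_mem _ fun y hy => ?_
    obtain ⟨O', hO', rfl⟩ := List.mem_map.1 hy
    obtain ⟨h1, h2⟩ := hL O' hO'
    refine hM ⟨d.E_G1 hv hσ h1, ?_⟩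
    rcases h2 with rfl | h2
    · exact one_mem _
    · exact d.E_rat (h O' h1 h2)
  have hne : ∀ O' ∈ L₁ ++ L₂, O' ∈ d.orbs ∧ (O' = [] ∨ O' ≠ O) := by
    intro O' hO'
    refine ⟨by rw [eL]; rcases List.mem_append.1 hO' with h | h <;> simp [h], ?_⟩
    rcases eq_or_ne O' O with rfl | hne
    swap
    · exact Or.inr hne
    refine Or.inl (List.eq_nil_iff_forall_not_mem.2 fun r hr => ?_)
    rw [eL, List.flatten_append, List.flatten_cons, List.nodup_append', List.nodup_append'] at hnd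
    rcases List.mem_append.1 hO' with h | h
    · exact hnd.2.2 (List.mem_flatten.2 ⟨_, h, hr⟩) (List.mem_append_left _ hr)
    · exact hnd.2.1.2.2 hr (List.mem_flatten.2 ⟨_, h, hr⟩)
  have h1 := hM' L₁ fun O' h => hne O' (List.mem_append_left _ h)
  have h2 := hM' L₂ fun O' h => hne O' (List.mem_append_right _ h)
  rw [eL, List.map_append, List.map_cons, List.prod_append, List.prod_cons] at e
  have h3 : d.E v O = ((L₁.map (d.E v)).prod)⁻¹ * ((xg d.g.toGood (top T) c)⁻¹ * v) *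
      ((L₂.map (d.E v)).prod)⁻¹ := by
    rw [inv_mul_eq_iff_eq_mul.2 e]
    group
  rw [h3]
  exact mul_mem (mul_mem (inv_mem h1) (mul_mem (inv_mem (hM (d.xg_top_mem hc))) hvH)) (inv_mem h2)

end TW

end Cfsg.Agent.TwMax
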